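import Mathlib

/-!
# Short presentations of symmetric and alternating groups: the prime

A strengthening of Bertrand's postulate by two: for `n ≥ 7` there is a prime `p` with `p + 2 ≤ n`
and `n + 1 ≤ 2 * p`. The proof for large even `n` is the central binomial one, with the prime
`n - 1` allowed for.
-/

set_option autoImplicit false

namespace Cfsg.Agent.Lib.ShortPresSym

theorem centralBinom_le_sym (M : ℕ) (hM : 4 ≤ M)
    (no_prime : ∀ p : ℕ, p.Prime → M < p → 2 * M - 2 < p) :
    M.centralBinom ≤ (2 * M) ^ Nat.sqrt (2 * M) * 4 ^ (2 * M / 3) := by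
  have hn2 : 1 ≤ 2 * M := by omega
  set R := Finset.range (2 * M / 3 + 1) with hR
  let f x := x ^ M.centralBinom.factorization x
  have hnot : 2 * M - 1 ∉ R := by simp [hR]; omega
  have hprod : M.centralBinom = ∏ x ∈ insert (2 * M - 1) R, f x := by
    refine (Eq.trans ?_ M.prod_pow_factorization_centralBinom).symm
    refine Finset.prod_subset ?_ fun x hx h2x => ?_
    · intro x hx
      rw [Finset.mem_insert, hR, Finset.mem_range] at hx
      rw [Finset.mem_range]; omega
    rw [Finset.mem_range] at hx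
    rw [Finset.mem_insert, hR, Finset.mem_range, not_or] at h2x
    by_cases hp : x.Prime
    · rcases Nat.lt_or_ge M x with h | h
      · have h2 := no_prime x hp h
        have hx2 : x ≠ 2 * M := fun e => by
          have := (Nat.prime_dvd_prime_iff_eq Nat.prime_two hp).1 (e ▸ Dvd.intro M rfl)
          omega
        exfalso; omega
      · show x ^ M.centralBinom.factorization x = 1
        rw [Nat.factorization_centralBinom_of_two_mul_self_lt_three_mul (by omega) h (by omega),
          pow_zero]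
    · show x ^ M.centralBinom.factorization x = 1
      rw [Nat.factorization_eq_zero_of_not_prime M.centralBinom hp, pow_zero]
  rw [hprod, Finset.prod_insert hnot]
  have hlast : f (2 * M - 1) ≤ 2 * M := Nat.pow_factorization_choose_le (by omega)
  let S := R.filter Nat.Prime
  have hS : ∏ x ∈ S, f x = ∏ x ∈ R, f x := by
    refine Finset.prod_filter_of_ne fun p _ h => ?_
    contrapose h; dsimp only [f]
    rw [Nat.factorization_eq_zero_of_not_prime M.centralBinom h, pow_zero]
  rw [← hS, ← Finset.prod_filter_mul_prod_filter_not S (· ≤ Nat.sqrt (2 * M))]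
  have h1 : ∏ x ∈ S.filter (· ≤ Nat.sqrt (2 * M)), f x ≤ (2 * M) ^ (Nat.sqrt (2 * M) - 1) := by
    refine (Finset.prod_le_prod' fun p _ => (?_ : f p ≤ 2 * M)).trans ?_
    · exact Nat.pow_factorization_choose_le (by omega)
    rw [Finset.prod_const]
    refine pow_right_mono₀ hn2 ((Finset.card_le_card (t := Finset.Icc 2 (Nat.sqrt (2 * M)))
      fun x hx => ?_).trans ?_)
    · obtain ⟨h1, h2⟩ := Finset.mem_filter.1 hx
      exact Finset.mem_Icc.mpr ⟨(Finset.mem_filter.1 h1).2.two_le, h2⟩
    · rw [Nat.card_Icc]; omega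
  have h2 : ∏ x ∈ S.filter (¬ · ≤ Nat.sqrt (2 * M)), f x ≤ 4 ^ (2 * M / 3) := by
    refine le_trans ?_ (primorial_le_four_pow (2 * M / 3))
    refine (Finset.prod_le_prod' fun p hp => (?_ : f p ≤ p)).trans ?_
    · obtain ⟨h1, h2⟩ := Finset.mem_filter.1 hp
      refine (pow_right_mono₀ (Finset.mem_filter.1 h1).2.one_lt.le ?_).trans (pow_one p).le
      exact Nat.factorization_choose_le_one (Nat.sqrt_lt'.mp <| not_le.1 h2)
    refine Finset.prod_le_prod_of_subset_of_one_le' (Finset.filter_subset _ _) ?_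
    exact fun p hp _ => (Finset.mem_filter.1 hp).2.one_lt.le
  have hs : 1 ≤ Nat.sqrt (2 * M) := Nat.le_sqrt.2 (by omega)
  calc f (2 * M - 1) * (_ * _) ≤ 2 * M * ((2 * M) ^ (Nat.sqrt (2 * M) - 1) * 4 ^ (2 * M / 3)) :=
        Nat.mul_le_mul hlast (Nat.mul_le_mul h1 h2)
    _ = _ := by rw [← mul_assoc, ← pow_succ', Nat.sub_add_cancel hs]

theorem exists_prime_even_step {M : ℕ} (q p : ℕ) (hp : p.Prime) (hpq : p ≤ 2 * q - 2)
    (H : M < q → ∃ p : ℕ, p.Prime ∧ M < p ∧ p ≤ 2 * M - 2) (hM : M < p) :
    ∃ p : ℕ, p.Prime ∧ M < p ∧ p ≤ 2 * M - 2 := by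
  by_cases h : M < q
  · exact H h
  · refine ⟨p, hp, hM, ?_⟩
    clear H
    omega

theorem exists_prime_even (M : ℕ) (hM : 4 ≤ M) :
    ∃ p : ℕ, p.Prime ∧ M < p ∧ p ≤ 2 * M - 2 := by
  rcases lt_or_ge 511 M with h | h
  · by_contra hno
    push Not at hno
    have h1 : 4 ^ M < M * M.centralBinom := Nat.four_pow_lt_mul_centralBinom M hM
    have h2 := centralBinom_le_sym M hM hno
    have h3 := bertrand_main_inequality (n := M) h
    have h4 : M * M.centralBinom ≤ M * ((2 * M) ^ Nat.sqrt (2 * M) * 4 ^ (2 * M / 3)) :=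
      Nat.mul_le_mul_left M h2
    rw [← mul_assoc] at h4
    omega
  · refine exists_prime_even_step 317 521 (by norm_num) (by norm_num) ?_ (by omega)
    refine exists_prime_even_step 163 317 (by norm_num) (by norm_num) ?_
    refine exists_prime_even_step 83 163 (by norm_num) (by norm_num) ?_
    refine exists_prime_even_step 43 83 (by norm_num) (by norm_num) ?_
    refine exists_prime_even_step 23 43 (by norm_num) (by norm_num) ?_
    refine exists_prime_even_step 13 23 (by norm_num) (by norm_num) ?_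
    refine exists_prime_even_step 11 13 (by norm_num) (by norm_num) ?_
    refine exists_prime_even_step 7 11 (by norm_num) (by norm_num) ?_
    refine exists_prime_even_step 5 7 (by norm_num) (by norm_num) ?_
    exact fun h5 => ⟨5, by norm_num, h5, by omega⟩

/-- For `n ≥ 7` there is a prime `p` with `p + 2 ≤ n` and `n + 1 ≤ 2 * p`. -/
theorem exists_prime_near (n : ℕ) (hn : 7 ≤ n) :
    ∃ p : ℕ, p.Prime ∧ p + 2 ≤ n ∧ n + 1 ≤ 2 * p := by
  rcases Nat.even_or_odd' n with ⟨M, rfl | rfl⟩
  · obtain ⟨p, hp, h1, h2⟩ := exists_prime_even M (by omega)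
    exact ⟨p, hp, by omega, by omega⟩
  · obtain ⟨p, hp, h1, h2⟩ := Nat.bertrand M (by omega)
    have : p ≠ 2 * M := fun e => by
      have := (Nat.prime_dvd_prime_iff_eq Nat.prime_two hp).1 (e ▸ Dvd.intro M rfl)
      omega
    exact ⟨p, hp, by omega, by omega⟩

end Cfsg.Agent.Lib.ShortPresSym
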