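import Cfsg.Agent.Lib.ShortPresSym.Core
import Cfsg.Agent.Lib.ShortPresSym.Prime

/-!
# Short presentations of symmetric and alternating groups, part 5

The concrete configurations on `Fin k ⊕ Fin l × Bool`, the involution exchanging the two copies of
`Fin l`.
-/

set_option autoImplicit false
set_option linter.unusedSectionVars false
set_option linter.style.haveILetI false

namespace Cfsg.Agent.Lib.ShortPresSym

open Equiv

theorem HasPres.congr {H H' : Type*} [Group H] [Group H'] (h : HasPres H) (E : H ≃* H') :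
    HasPres H' := by
  obtain ⟨rels, hcard, e, hgen⟩ := h
  refine ⟨rels, hcard, e.trans E, ?_⟩
  have := congrArg (Subgroup.map E.toMonoidHom) hgen
  rw [MonoidHom.map_closure, Set.image_pair,
    Subgroup.map_top_of_surjective E.toMonoidHom E.surjective] at this
  exact this

section Generic

variable {Ω : Type*} [Fintype Ω] [DecidableEq Ω]

theorem sign_formPerm_nodup (l : List Ω) (hl : l.Nodup) :
    Perm.sign l.formPerm = (-1) ^ (l.length - 1) := by
  rcases l with _ | ⟨x, _ | ⟨y, l⟩⟩
  · simp
  · simp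
  · have h2 : 2 ≤ (x :: y :: l).length := by simp
    rw [(List.isCycle_formPerm hl h2).sign, List.support_formPerm_of_nodup _ hl (by simp),
      List.toFinset_card_of_nodup hl]
    simp only [List.length_cons, Nat.add_sub_cancel]
    rw [pow_succ _ (l.length + 1), mul_neg_one, neg_neg]

theorem formPerm_mem_altOn (l : List Ω) (hl : l.Nodup) (hev : Even (l.length - 1)) {Y : Finset Ω}
    (hY : ∀ v ∈ l, v ∈ Y) : l.formPerm ∈ altOn Y :=
  ⟨by rw [sign_formPerm_nodup l hl, hev.neg_one_pow],
    fun i hi => List.formPerm_apply_of_notMem fun h => hi (hY i h)⟩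

theorem exists_pow_formPerm (x : Ω) (l : List Ω) (hl : (x :: l).Nodup) {v : Ω} (hv : v ∈ l) :
    ∃ k : ℕ, ((x :: l).formPerm ^ k) x = v := by
  obtain ⟨i, hi, rfl⟩ := List.getElem_of_mem hv
  refine ⟨i + 1, ?_⟩
  have h := List.formPerm_pow_apply_getElem (x :: l) hl (i + 1) 0 (by simp)
  simpa [Nat.mod_eq_of_lt (show i + 1 < l.length + 1 by omega)] using h

/-- An even permutation moving along a list, fixing or moving the first point. -/
theorem exists_shift (l : List Ω) (hl : l.Nodup) (hlen : 3 ≤ l.length) :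
    ∃ q ∈ altOn l.toFinset, (q l[0] = l[0] ∨ q l[0] = l[1]) ∧
      ∀ (i : ℕ) (h : i + 1 < l.length), 1 ≤ i → q l[i] = l[i + 1] := by
  rcases Nat.even_or_odd l.length with he | ho
  · obtain ⟨x, l', rfl⟩ : ∃ x l', l = x :: l' := by
      rcases l with _ | ⟨x, l'⟩
      · simp at hlen
      · exact ⟨x, l', rfl⟩
    have hl' := (List.nodup_cons.1 hl)
    refine ⟨l'.formPerm, formPerm_mem_altOn _ hl'.2 ?_ fun v hv => by simp [hv], Or.inl ?_, ?_⟩
    · simp only [List.length_cons] at he hlen
      rw [Nat.even_add_one, Nat.not_even_iff_odd] at he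
      obtain ⟨j, hj⟩ := he
      exact ⟨j, by omega⟩
    · exact List.formPerm_apply_of_notMem hl'.1
    · intro i h hi
      obtain ⟨j, rfl⟩ := Nat.exists_eq_add_of_le hi
      have hj : j + 1 < l'.length := by simp only [List.length_cons] at h; omega
      simp only [Nat.add_comm 1 j, List.getElem_cons_succ]
      exact List.formPerm_apply_lt_getElem _ hl'.2 j hj
  · refine ⟨l.formPerm, formPerm_mem_altOn _ hl ?_ fun v hv => List.mem_toFinset.2 hv,
      Or.inr (List.formPerm_apply_lt_getElem _ hl 0 (by omega)), fun i h _ =>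
        List.formPerm_apply_lt_getElem _ hl i h⟩
    obtain ⟨j, hj⟩ := ho
    exact ⟨j, by omega⟩

/-- A permutation moving its own support away commutes with its conjugate. -/
theorem commute_conj_of_away (g σ : Perm Ω) (S : Finset Ω) (hg : ∀ i, i ∉ S → g i = i)
    (hσ : ∀ i ∈ S, σ i ∉ S) : Commute g (σ * g * σ⁻¹) := by
  refine Perm.Disjoint.commute fun i => ?_
  by_cases hi : i ∈ S
  · right
    have hns : σ⁻¹ i ∉ S := fun h => hσ _ h (by rw [Perm.inv_def, Equiv.apply_symm_apply]; exact hi)
    rw [Perm.mul_apply, Perm.mul_apply, hg _ hns, Perm.inv_def, Equiv.apply_symm_apply]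
  · exact Or.inl (hg i hi)

theorem exists_affine_on {p : ℕ} [Fact p.Prime] (hp : p ≠ 2) (Y : Finset Ω) (a b e : Ω)
    (ha : a ∈ Y) (hb : b ∈ Y) (he : e ∈ Y) (hab : a ≠ b) (hae : a ≠ e) (hbe : b ≠ e)
    (hcard : Y.card = p + 2) :
    ∃ A : Affine Ω p, A.pa = a ∧ A.pb = b ∧ A.ι 0 = e ∧ A.X = Y := by
  set Z := (Y.erase a).erase b with hZ
  have hb' : b ∈ Y.erase a := Finset.mem_erase.2 ⟨hab.symm, hb⟩
  have heZ : e ∈ Z := Finset.mem_erase.2 ⟨hbe.symm, Finset.mem_erase.2 ⟨hae.symm, he⟩⟩
  have hZcard : Fintype.card (ZMod p) = Fintype.card Z := by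
    rw [ZMod.card, Fintype.card_coe, hZ, Finset.card_erase_of_mem hb',
      Finset.card_erase_of_mem ha, hcard]
    omega
  let σ := Fintype.equivOfCardEq hZcard
  let σ' : ZMod p ≃ Z := (Equiv.swap 0 (σ.symm ⟨e, heZ⟩)).trans σ
  obtain ⟨A, hι, hpa, hpb⟩ := exists_affine hp (fun i => (σ' i : Ω))
    (Subtype.val_injective.comp σ'.injective) a b hab
    (fun i => (Finset.mem_erase.1 (Finset.mem_erase.1 (σ' i).2).2).1)
    (fun i => (Finset.mem_erase.1 (σ' i).2).1)
  have h0 : A.ι 0 = e := by
    rw [hι]
    simp [σ']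
  refine ⟨A, hpa, hpb, h0, ?_⟩
  have himg : Finset.univ.image A.ι = Z := by
    ext v
    rw [Finset.mem_image, hι]
    exact ⟨fun ⟨i, _, hi⟩ => hi ▸ (σ' i).2,
      fun hv => ⟨σ'.symm ⟨v, hv⟩, Finset.mem_univ _, by simp⟩⟩
  rw [Affine.X, hpa, hpb, himg, hZ, Finset.insert_erase hb', Finset.insert_erase ha]

end Generic

section Concrete

variable (k l : ℕ)

/-- The points. -/
abbrev Pt := Fin k ⊕ Fin l × Bool

/-- The involution. -/
def invol : Perm (Pt k l) :=
  Equiv.sumCongr (1 : Perm (Fin k)) (Equiv.prodCongrRight fun _ : Fin l => Equiv.swap false true)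

@[simp] theorem invol_inl (i : Fin k) : invol k l (Sum.inl i) = Sum.inl i := rfl

@[simp] theorem invol_inr (j : Fin l) (t : Bool) :
    invol k l (Sum.inr (j, t)) = Sum.inr (j, !t) := by
  cases t <;> rfl

theorem invol_invol (v : Pt k l) : invol k l (invol k l v) = v := by
  rcases v with i | ⟨j, t⟩ <;> simp

theorem sign_invol : Perm.sign (invol k l) = (-1) ^ l := by
  simp [invol, Perm.sign_sumCongr, Perm.sign_prodCongrRight]

/-- The first half. -/
def half : Finset (Pt k l) :=
  Finset.univ.map Function.Embedding.inl ∪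
    Finset.univ.map ((Function.Embedding.sectL (Fin l) false).trans Function.Embedding.inr)

theorem inl_mem_half (i : Fin k) : (Sum.inl i : Pt k l) ∈ half k l := by simp [half]

theorem inr_mem_half {j : Fin l} {t : Bool} : (Sum.inr (j, t) : Pt k l) ∈ half k l ↔ t = false := by
  simp [half, eq_comm]

theorem card_half : (half k l).card = k + l := by
  rw [half, Finset.card_union_of_disjoint ?_, Finset.card_map, Finset.card_map, Finset.card_univ,
    Finset.card_univ, Fintype.card_fin, Fintype.card_fin]
  rw [Finset.disjoint_left]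
  intro v hv hv'
  simp only [Finset.mem_map, Finset.mem_univ, true_and] at hv hv'
  obtain ⟨i, rfl⟩ := hv
  obtain ⟨j, hj⟩ := hv'
  exact Sum.inr_ne_inl hj

theorem half_cover (v : Pt k l) : v ∈ half k l ∨ invol k l v ∈ half k l := by
  rcases v with i | ⟨j, t⟩
  · exact Or.inl (inl_mem_half k l i)
  · cases t <;> simp [inr_mem_half]

variable {k l}

/-- The long cycle: the first point and the points `(j, false)` for `j` in a list. -/
def cycList (hk : 3 ≤ k) (L : List (Fin l)) : List (Pt k l) :=
  Sum.inl (⟨0, by omega⟩ : Fin k) :: L.map fun j => Sum.inr (j, false)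

theorem cycList_nodup (hk : 3 ≤ k) {L : List (Fin l)} (hL : L.Nodup) : (cycList hk L).Nodup := by
  refine List.nodup_cons.2 ⟨by simp, hL.map fun a b h => ?_⟩
  simpa using h

theorem exists_config {p : ℕ} [Fact p.Prime] (hp : p ≠ 2) (hk : 3 ≤ k) (Y : Finset (Pt k l))
    (hPY : half k l ⊆ Y) (hY : Y.card = p + 2) (L : List (Fin l)) (hL : L.Nodup)
    (s : Perm (Pt k l)) (Q : Finset (Pt k l))
    (hsQ : ∀ i, i ∉ Q → s i = i)
    (hQ : ∀ i ∈ Q, ∃ h : Fin k, 3 ≤ (h : ℕ) ∧ i = Sum.inl h)
    (hsign : Perm.sign s * (-1) ^ L.length = 1) :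
    ∃ d : Config (Pt k l) p, d.c = invol k l ∧ d.g = (cycList hk L).formPerm * s ∧ d.A.X = Y ∧
      d.A.pa = Sum.inl ⟨0, by omega⟩ ∧ d.A.pb = Sum.inl ⟨1, by omega⟩ ∧
      d.A.ι 0 = Sum.inl ⟨2, by omega⟩ := by
  obtain ⟨A, hpa, hpb, he, hX⟩ := exists_affine_on hp Y (Sum.inl (⟨0, by omega⟩ : Fin k))
    (Sum.inl (⟨1, by omega⟩ : Fin k)) (Sum.inl (⟨2, by omega⟩ : Fin k))
    (hPY (inl_mem_half k l _)) (hPY (inl_mem_half k l _)) (hPY (inl_mem_half k l _))
    (by simp) (by simp) (by simp) hY
  have hnd := cycList_nodup hk hL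
  have hmem : ∀ v ∈ cycList hk L,
      v = Sum.inl (⟨0, by omega⟩ : Fin k) ∨ ∃ j, v = Sum.inr (j, false) := by
    intro v hv
    simp only [cycList, List.mem_cons, List.mem_map] at hv
    rcases hv with rfl | ⟨j, -, rfl⟩
    · exact Or.inl rfl
    · exact Or.inr ⟨j, rfl⟩
  have hcY : ∀ v ∈ cycList hk L, v ∈ Y := by
    intro v hv
    rcases hmem v hv with rfl | ⟨j, rfl⟩
    · exact hPY (inl_mem_half k l _)
    · exact hPY ((inr_mem_half k l).2 rfl)
  have hQY : ∀ v ∈ Q, v ∈ Y := fun v hv => by
    obtain ⟨h, -, rfl⟩ := hQ v hv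
    exact hPY (inl_mem_half k l _)
  have hsfix : ∀ (h : Fin k), (h : ℕ) < 3 → s (Sum.inl h) = Sum.inl h := fun h hh =>
    hsQ _ fun hm => by
      obtain ⟨h', h3, e⟩ := hQ _ hm
      obtain rfl := Sum.inl_injective e
      omega
  set g1 := (cycList hk L).formPerm with hg1
  have hfix1 : ∀ i, i ∉ (cycList hk L).toFinset → g1 i = i := fun i hi =>
    List.formPerm_apply_of_notMem fun h => hi (List.mem_toFinset.2 h)
  have hg1fix : ∀ h : Fin k, (h : ℕ) ≠ 0 → g1 (Sum.inl h) = Sum.inl h := fun h hh =>
    hfix1 _ fun hm => by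
      rcases hmem _ (List.mem_toFinset.1 hm) with e | ⟨j, e⟩
      · exact hh (congrArg Fin.val (Sum.inl_injective e))
      · exact Sum.inl_ne_inr e
  have hcx : ∀ h : Fin k, 3 ≤ (h : ℕ) → (invol k l * A.x0) (Sum.inl h) = Sum.inl h := fun h hh => by
    rw [Perm.mul_apply, Affine.x0, hpa, hpb, he, cyc_apply_ne (by simp [Fin.ext_iff]; omega)
      (by simp [Fin.ext_iff]; omega) (by simp [Fin.ext_iff]; omega), invol_inl]
  have hgc : Commute (g1 * s) (invol k l * (A.x0 * (g1 * s) * A.x0⁻¹) * invol k l) := by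
    have hinv : (invol k l)⁻¹ = invol k l :=
      inv_eq_of_mul_eq_one_right (Equiv.ext fun v => invol_invol k l v)
    set σ := invol k l * A.x0 with hσ
    have h1 : Commute g1 (σ * g1 * σ⁻¹) := by
      refine commute_conj_of_away g1 σ _ hfix1 fun i hi hi' => ?_
      rcases hmem i (List.mem_toFinset.1 hi) with rfl | ⟨j, rfl⟩
      · rw [hσ, Perm.mul_apply, Affine.x0, hpa, hpb, he, cyc_apply_left (by simp) (by simp),
          invol_inl] at hi'
        rcases hmem _ (List.mem_toFinset.1 hi') with e | ⟨j, e⟩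
        · simp at e
        · simp at e
      · rw [hσ, Perm.mul_apply, Affine.x0, hpa, hpb, he, cyc_apply_ne (by simp) (by simp) (by simp),
          invol_inr] at hi'
        rcases hmem _ (List.mem_toFinset.1 hi') with e | ⟨j, e⟩
        · simp at e
        · simp at e
    have hσs : Commute σ s := by
      refine Equiv.ext fun i => ?_
      simp only [Perm.mul_apply]
      by_cases hi : i ∈ Q
      · obtain ⟨h, h3, rfl⟩ := hQ i hi
        have hm : s (Sum.inl h) ∈ Q := by
          by_contra hm
          exact hm (by rw [s.injective (hsQ _ hm)]; exact hi)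
        obtain ⟨h', h3', e⟩ := hQ _ hm
        have e1 := hcx h h3
        have e2 := hcx h' h3'
        rw [e1, e, e2]
      · rw [hsQ i hi]
        refine (hsQ _ fun hm => hi ?_).symm
        obtain ⟨h, h3, e⟩ := hQ _ hm
        have e1 := hcx h h3
        have : i = Sum.inl h := σ.injective (e.trans e1.symm)
        rw [this, ← e]; exact hm
    have hg1s : Commute g1 s := by
      refine Perm.Disjoint.commute fun i => ?_
      by_cases hi : i ∈ Q
      · obtain ⟨h, h3, rfl⟩ := hQ i hi
        exact Or.inl (hg1fix h (by omega))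
      · exact Or.inr (hsQ i hi)
    have hcs : σ * s * σ⁻¹ = s := by rw [hσs.eq, mul_inv_cancel_right]
    have hg2s : Commute (σ * g1 * σ⁻¹) s := by
      show _ * _ = _ * _
      calc σ * g1 * σ⁻¹ * s = σ * g1 * σ⁻¹ * (σ * s * σ⁻¹) := by rw [hcs]
        _ = σ * (g1 * s) * σ⁻¹ := by group
        _ = σ * (s * g1) * σ⁻¹ := by rw [hg1s.eq]
        _ = σ * s * σ⁻¹ * (σ * g1 * σ⁻¹) := by group
        _ = _ := by rw [hcs]
    have e : invol k l * (A.x0 * (g1 * s) * A.x0⁻¹) * invol k l = σ * g1 * σ⁻¹ * s := by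
      calc invol k l * (A.x0 * (g1 * s) * A.x0⁻¹) * invol k l
          = invol k l * A.x0 * (g1 * s) * (A.x0⁻¹ * (invol k l)⁻¹) := by rw [hinv]; group
        _ = σ * g1 * σ⁻¹ * (σ * s * σ⁻¹) := by rw [hσ]; group
        _ = _ := by rw [hcs]
    rw [e]
    exact (h1.mul_right hg1s).mul_left (hg2s.symm.mul_right (Commute.refl s))
  refine ⟨{ A := A, c := invol k l, hc := invol_invol k l, hca := by rw [hpa]; rfl
            hcb := by rw [hpb]; rfl, hce := by rw [he]; rfl, g := g1 * s
            hg := ⟨?_, ?_⟩, hgb := ?_, hge := ?_, hgc := hgc }, rfl, rfl, hX, hpa, hpb, he⟩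
  · rw [map_mul, hg1, sign_formPerm_nodup _ hnd, mul_comm]
    simpa [cycList] using hsign
  · intro i hi
    rw [hX] at hi
    rw [Perm.mul_apply, hsQ i fun h => hi (hQY i h),
      hfix1 i fun h => hi (hcY i (List.mem_toFinset.1 h))]
  · rw [hpb, Perm.mul_apply, hsfix _ (by simp), hg1fix _ (by simp)]
  · rw [he, Perm.mul_apply, hsfix _ (by simp), hg1fix _ (by simp)]

theorem orb_cycList (hk : 3 ≤ k) {L : List (Fin l)} (hL : L.Nodup) (s : Perm (Pt k l))
    (hs : ∀ v ∈ cycList hk L, s v = v) {j : Fin l} (hj : j ∈ L) :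
    ∃ n : ℕ, (((cycList hk L).formPerm * s) ^ n) (Sum.inl (⟨0, by omega⟩ : Fin k)) =
      Sum.inr (j, false) := by
  obtain ⟨n, hn⟩ := exists_pow_formPerm (Sum.inl (⟨0, by omega⟩ : Fin k) : Pt k l)
    (L.map fun j => Sum.inr (j, false)) (cycList_nodup hk hL) (List.mem_map.2 ⟨j, hj, rfl⟩)
  refine ⟨n, ?_⟩
  have key : ∀ m : ℕ, ∀ v ∈ cycList hk L,
      (((cycList hk L).formPerm * s) ^ m) v = ((cycList hk L).formPerm ^ m) v := by
    intro m
    induction m with
    | zero => exact fun v _ => rfl
    | succ m ih =>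
      intro v hv
      rw [pow_succ, Perm.mul_apply, Perm.mul_apply, hs v hv, pow_succ, Perm.mul_apply]
      exact ih _ (List.formPerm_apply_mem_of_mem hv)
  rw [key n _ List.mem_cons_self]
  exact hn

/-- The fixed points, listed. -/
def fixList (k l : ℕ) : List (Pt k l) := (List.finRange k).map Sum.inl

theorem fixList_nodup : (fixList k l).Nodup := (List.nodup_finRange k).map Sum.inl_injective

theorem fixList_length : (fixList k l).length = k := by simp [fixList]

theorem fixList_getElem (i : ℕ) (h : i < (fixList k l).length) :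
    (fixList k l)[i] = Sum.inl ⟨i, by simpa [fixList] using h⟩ := by
  simp [fixList]

theorem fixList_toFinset : (fixList k l).toFinset = half k l ∩ (half k l).image (invol k l) := by
  ext v
  simp only [List.mem_toFinset, fixList, List.mem_map, List.mem_finRange, true_and,
    Finset.mem_inter, Finset.mem_image]
  rcases v with i | ⟨j, t⟩
  · simp only [inl_mem_half, Sum.inl.injEq, exists_eq, true_and, true_iff]
    exact ⟨Sum.inl i, inl_mem_half k l i, rfl⟩
  · simp only [reduceCtorEq, exists_false, false_iff, not_and, inr_mem_half]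
    rintro rfl ⟨w, hw, e⟩
    have := congrArg (invol k l) e
    rw [invol_invol, invol_inr] at this
    subst this
    simp [inr_mem_half] at hw

variable {p : ℕ} [Fact p.Prime]

/-- Alternating group, all points of the half in the base. -/
theorem hasPres_alt_half (hp : p ≠ 2) (hk : 3 ≤ k) (hl : Even l) (hcard : k + l = p + 2) :
    HasPres (alternatingGroup (Pt k l)) := by
  obtain ⟨d, hc, hg, hX, hpa, hpb, he⟩ := exists_config hp hk (half k l) subset_rfl
    (by rw [card_half, hcard]) (List.finRange l) (List.nodup_finRange l) 1 ∅ (fun _ _ => rfl)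
    (by simp) (by rw [map_one, one_mul, List.length_finRange, hl.neg_one_pow])
  rw [mul_one] at hg
  obtain ⟨q, hq, hq0, hqs⟩ := exists_shift (fixList k l) fixList_nodup (by rw [fixList_length]; exact hk)
  refine d.hasPres_alt
    { P := half k l
      P_sub := hX.ge
      three := ?_
      cover := fun i => by rw [hc]; exact half_cover k l i
      even := by rw [hc, sign_invol, hl.neg_one_pow]
      l := fixList k l
      l_nodup := fixList_nodup
      l_eq := by rw [hc]; exact fixList_toFinset
      l_fix := ?_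
      l_len := by rw [fixList_length]; exact hk
      l0 := by rw [hpa, fixList_getElem]
      l1 := by rw [hpb, fixList_getElem]
      l2 := by rw [he, fixList_getElem]
      q := q
      q_mem := by rw [hc, ← fixList_toFinset]; exact hq
      q0 := hq0
      qsucc := hqs
      orb := ?_
      g_mem := ?_
      t := 1
      t_spec := Or.inl ⟨rfl, hX.symm⟩ }
  · rw [hpa, hpb, he]
    simp [Finset.insert_subset_iff, inl_mem_half]
  · rw [hc]
    rintro (i | ⟨j, t⟩) h1 h2
    · rfl
    · rw [inr_mem_half] at h1; subst h1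
      simp [inr_mem_half] at h2
  · rw [hc, hpa, hg]
    rintro (i | ⟨j, t⟩) h1 h2
    · exact absurd (inl_mem_half k l i) h2
    · rw [inr_mem_half] at h1; subst h1
      simpa using orb_cycList hk (List.nodup_finRange l) 1 (fun _ _ => rfl) (List.mem_finRange j)
  · rw [hg, hc, hpa, hpb, he]
    refine formPerm_mem_altOn _ (cycList_nodup hk (List.nodup_finRange l)) (by simpa [cycList] using hl)
      fun v hv => ?_
    simp only [cycList, List.mem_cons, List.mem_map, List.mem_finRange, true_and] at hv
    rcases hv with rfl | ⟨j, rfl⟩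
    · exact Finset.mem_union_right _ (by simp)
    · refine Finset.mem_union_left _ (Finset.mem_sdiff.2 ⟨(inr_mem_half k l).2 rfl, fun h => ?_⟩)
      obtain ⟨w, hw, e⟩ := Finset.mem_image.1 h
      rw [← invol_invol k l w, e] at hw
      simp [inr_mem_half] at hw

/-- Alternating group, with one extra point in the base. -/
theorem hasPres_alt_extra (hp : p ≠ 2) (hk : 3 ≤ k) (hl : Even l) (hl2 : 2 ≤ l)
    (hcard : k + l + 1 = p + 2) : HasPres (alternatingGroup (Pt k l)) := by
  set u' : Pt k l := Sum.inr (⟨0, by omega⟩, true) with hu'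
  set r : Pt k l := Sum.inr (⟨1, by omega⟩, false) with hr
  have hu'P : u' ∉ half k l := by simp [hu', inr_mem_half]
  obtain ⟨d, hc, hg, hX, hpa, hpb, he⟩ := exists_config hp hk (insert u' (half k l))
    (Finset.subset_insert _ _) (by rw [Finset.card_insert_of_notMem hu'P, card_half, hcard])
    (List.finRange l) (List.nodup_finRange l) 1 ∅ (fun _ _ => rfl)
    (by simp) (by rw [map_one, one_mul, List.length_finRange, hl.neg_one_pow])
  rw [mul_one] at hg
  obtain ⟨q, hq, hq0, hqs⟩ := exists_shift (fixList k l) fixList_nodup (by rw [fixList_length]; exact hk)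
  refine d.hasPres_alt
    { P := half k l
      P_sub := (Finset.subset_insert _ _).trans hX.ge
      three := ?_
      cover := fun i => by rw [hc]; exact half_cover k l i
      even := by rw [hc, sign_invol, hl.neg_one_pow]
      l := fixList k l
      l_nodup := fixList_nodup
      l_eq := by rw [hc]; exact fixList_toFinset
      l_fix := ?_
      l_len := by rw [fixList_length]; exact hk
      l0 := by rw [hpa, fixList_getElem]
      l1 := by rw [hpb, fixList_getElem]
      l2 := by rw [he, fixList_getElem]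
      q := q
      q_mem := by rw [hc, ← fixList_toFinset]; exact hq
      q0 := hq0
      qsucc := hqs
      orb := ?_
      g_mem := ?_
      t := cyc u' (d.c u') r
      t_spec := Or.inr ⟨u', r, hX, hu'P, ?_, ?_, ?_, rfl⟩ }
  · rw [hpa, hpb, he]
    simp [Finset.insert_subset_iff, inl_mem_half]
  · rw [hc]
    rintro (i | ⟨j, t⟩) h1 h2
    · rfl
    · rw [inr_mem_half] at h1; subst h1
      simp [inr_mem_half] at h2
  · rw [hc, hpa, hg]
    rintro (i | ⟨j, t⟩) h1 h2
    · exact absurd (inl_mem_half k l i) h2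
    · rw [inr_mem_half] at h1; subst h1
      simpa using orb_cycList hk (List.nodup_finRange l) 1 (fun _ _ => rfl) (List.mem_finRange j)
  · rw [hg, hc, hpa, hpb, he]
    refine formPerm_mem_altOn _ (cycList_nodup hk (List.nodup_finRange l)) (by simpa [cycList] using hl)
      fun v hv => ?_
    simp only [cycList, List.mem_cons, List.mem_map, List.mem_finRange, true_and] at hv
    rcases hv with rfl | ⟨j, rfl⟩
    · exact Finset.mem_union_right _ (by simp)
    · refine Finset.mem_union_left _ (Finset.mem_sdiff.2 ⟨(inr_mem_half k l).2 rfl, fun h => ?_⟩)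
      obtain ⟨w, hw, e⟩ := Finset.mem_image.1 h
      rw [← invol_invol k l w, e] at hw
      simp [inr_mem_half] at hw
  · simp [hr, inr_mem_half]
  · rw [hc]; simp [hr, inr_mem_half]
  · rw [hc]; simp [hr, hu', Fin.ext_iff]

/-- Symmetric group, all points of the half in the base. -/
theorem hasPres_perm_half (hp : p ≠ 2) (hk : 5 ≤ k) (hl : Odd l) (hcard : k + l = p + 2) :
    HasPres (Perm (Pt k l)) := by
  set i3 : Pt k l := Sum.inl ⟨3, by omega⟩ with hi3
  set i4 : Pt k l := Sum.inl ⟨4, by omega⟩ with hi4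
  obtain ⟨d, hc, hg, hX, hpa, hpb, he⟩ := exists_config hp (show 3 ≤ k by omega) (half k l)
    subset_rfl (by rw [card_half, hcard]) (List.finRange l) (List.nodup_finRange l) (swap i3 i4)
    {i3, i4}
    (fun i hi => by
      simp only [Finset.mem_insert, Finset.mem_singleton, not_or] at hi
      exact swap_apply_of_ne_of_ne hi.1 hi.2)
    (fun i hi => by
      simp only [Finset.mem_insert, Finset.mem_singleton] at hi
      rcases hi with rfl | rfl
      · exact ⟨_, le_rfl, rfl⟩
      · exact ⟨_, by simp, rfl⟩)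
    (by rw [Perm.sign_swap (by simp [hi3, hi4]), List.length_finRange, hl.neg_one_pow]; rfl)
  obtain ⟨q, hq, hq0, hqs⟩ := exists_shift (fixList k l) fixList_nodup
    (by rw [fixList_length]; omega)
  refine d.hasPres_perm
    { cover := fun i => by rw [hc, hX]; exact half_cover k l i
      odd := by rw [hc, sign_invol, hl.neg_one_pow]
      q := q
      q_mem := by rw [hc, hX, ← fixList_toFinset]; exact hq
      orb := ?_
      l := fixList k l
      l_nodup := fixList_nodup
      l_eq := by rw [hc, hX]; exact fixList_toFinset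
      l_len := by rw [fixList_length]; omega
      l0 := by rw [hpa, fixList_getElem]
      l1 := by rw [hpb, fixList_getElem]
      l2 := by rw [he, fixList_getElem]
      q0 := hq0
      qsucc := hqs }
  rw [hc, hX, hpa, hg]
  rintro (i | ⟨j, t⟩) h1 h2
  · exact absurd (inl_mem_half k l i) h2
  · rw [inr_mem_half] at h1; subst h1
    refine orb_cycList _ (List.nodup_finRange l) _ (fun v hv => ?_) (List.mem_finRange j)
    simp only [cycList, List.mem_cons, List.mem_map] at hv
    rcases hv with rfl | ⟨j, -, rfl⟩ <;>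
      exact swap_apply_of_ne_of_ne (by simp [hi3]) (by simp [hi4])

/-- Symmetric group, with one extra point in the base. -/
theorem hasPres_perm_extra (hp : p ≠ 2) (hk : 3 ≤ k) (hl : Odd l)
    (hcard : k + l + 1 = p + 2) : HasPres (Perm (Pt k l)) := by
  obtain ⟨m, hm⟩ := hl
  subst hm
  set o : Fin (2 * m + 1) := 0 with ho
  set u' : Pt k (2 * m + 1) := Sum.inr (o, true) with hu'
  have hu'P : u' ∉ half k (2 * m + 1) := by simp [hu', inr_mem_half]
  set L := (List.finRange (2 * m + 1)).erase o with hLdef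
  have hLnd : L.Nodup := (List.nodup_finRange _).erase _
  have hLlen : L.length = 2 * m := by
    rw [hLdef, List.length_erase_of_mem (List.mem_finRange _), List.length_finRange]; omega
  obtain ⟨d, hc, hg, hX, hpa, hpb, he⟩ := exists_config hp hk (insert u' (half k (2 * m + 1)))
    (Finset.subset_insert _ _) (by rw [Finset.card_insert_of_notMem hu'P, card_half, hcard])
    L hLnd 1 ∅ (fun _ _ => rfl) (by simp) (by rw [hLlen]; simp)
  set lK : List (Pt k (2 * m + 1)) := fixList k _ ++ [Sum.inr (o, false), Sum.inr (o, true)]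
    with hlK
  have hlKnd : lK.Nodup := by
    rw [hlK, List.nodup_append]
    refine ⟨fixList_nodup, by simp, ?_⟩
    intro a ha b hb
    simp only [fixList, List.mem_map] at ha
    obtain ⟨i, -, rfl⟩ := ha
    simp only [List.mem_cons, List.not_mem_nil, or_false] at hb
    rcases hb with rfl | rfl <;> simp
  have hlKmem : ∀ v, v ∈ lK ↔ v ∈ d.A.X ∧ invol k _ v ∈ d.A.X := by
    intro v
    rw [hX, hlK]
    rcases v with i | ⟨j, t⟩
    · simp [fixList, inl_mem_half]
    · cases t <;> simp [fixList, inr_mem_half, hu', eq_comm]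
  have hlKfin : lK.toFinset = d.A.X ∩ d.A.X.image d.c := by
    ext v
    rw [List.mem_toFinset, hlKmem, Finset.mem_inter, d.mem_image_c, hc]
  have hget : ∀ (i : ℕ) (h : i < k) (h' : i < lK.length), lK[i] = Sum.inl ⟨i, h⟩ := by
    intro i h h'
    simp only [hlK]
    rw [List.getElem_append_left (by rw [fixList_length]; exact h), fixList_getElem]
  have hlKlen : 3 ≤ lK.length := by rw [hlK, List.length_append, fixList_length]; omega
  obtain ⟨q, hq, hq0, hqs⟩ := exists_shift lK hlKnd hlKlen
  refine d.hasPres_perm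
    { cover := ?_
      odd := by rw [hc, sign_invol, Odd.neg_one_pow ⟨m, rfl⟩]
      q := q
      q_mem := hlKfin ▸ hq
      orb := ?_
      l := lK
      l_nodup := hlKnd
      l_eq := hlKfin
      l_len := hlKlen
      l0 := by rw [hpa, hget 0 (by omega)]
      l1 := by rw [hpb, hget 1 (by omega)]
      l2 := by rw [he, hget 2 (by omega)]
      q0 := hq0
      qsucc := hqs }
  · intro i
    rw [hc, hX]
    exact (half_cover k _ i).imp (fun h => Finset.mem_insert_of_mem h)
      fun h => Finset.mem_insert_of_mem h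
  · rw [hc, hX, hpa, hg, mul_one]
    rintro (i | ⟨j, t⟩) h1 h2
    · exact absurd (Finset.mem_insert_of_mem (inl_mem_half k _ i)) h2
    · have hj : t = false ∧ j ≠ o := by
        rw [Finset.mem_insert, inr_mem_half, hu'] at h1
        rw [invol_inr, Finset.mem_insert, inr_mem_half, hu', not_or] at h2
        cases t
        · refine ⟨rfl, fun e => h2.1 ?_⟩
          rw [e]
          rfl
        · exact absurd rfl h2.2
      obtain ⟨rfl, hj⟩ := hj
      simpa using orb_cycList hk hLnd 1 (fun _ _ => rfl)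
        (show j ∈ L from (List.mem_erase_of_ne hj).2 (List.mem_finRange j))

/-- Transport to `Fin n`. -/
theorem hasPres_transport {n : ℕ} (h : Fintype.card (Pt k l) = n) :
    (HasPres (Perm (Pt k l)) → HasPres (Perm (Fin n))) ∧
      (HasPres (alternatingGroup (Pt k l)) → HasPres (alternatingGroup (Fin n))) := by
  let E := (Fintype.equivFin (Pt k l)).trans (finCongr h)
  exact ⟨fun H => H.congr E.permCongrHom, fun H => H.congr E.altCongrHom⟩

end Concrete

/-- Seven relators suffice, given a suitable prime. -/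
theorem hasPres_of_prime {n p : ℕ} [Fact p.Prime] (hp : p ≠ 2) (h1 : p + 2 ≤ n)
    (h2 : n + 1 ≤ 2 * p ∨ n = 5 ∧ p = 3) :
    HasPres (Perm (Fin n)) ∧ HasPres (alternatingGroup (Fin n)) := by
  have h5 : 5 + n ≤ 2 * (p + 2) := by omega
  set k0 := 2 * (p + 2) - n with hk0
  set l0 := n - (p + 2) with hl0
  have hc : ∀ k l : ℕ, k + l + l = n → Fintype.card (Pt k l) = n := by
    intro k l h
    simp only [Fintype.card_sum, Fintype.card_prod, Fintype.card_fin, Fintype.card_bool]
    omega
  rcases Nat.even_or_odd l0 with he | ho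
  · refine ⟨(hasPres_transport (k := k0 - 2) (l := l0 + 1) (hc _ _ (by omega))).1
      (hasPres_perm_extra (p := p) hp (by omega) he.add_one (by omega)), ?_⟩
    exact (hasPres_transport (k := k0) (l := l0) (hc _ _ (by omega))).2
      (hasPres_alt_half (p := p) hp (by omega) he (by omega))
  · refine ⟨(hasPres_transport (k := k0) (l := l0) (hc _ _ (by omega))).1
      (hasPres_perm_half (p := p) hp (by omega) ho (by omega)), ?_⟩
    have hpos : 1 ≤ l0 := ho.pos
    exact (hasPres_transport (k := k0 - 2) (l := l0 + 1) (hc _ _ (by omega))).2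
      (hasPres_alt_extra (p := p) hp (by omega) ho.add_one (by omega) (by omega))

/-- The uniform presentations, away from degree six. -/
theorem hasPres_seven (n : ℕ) (hn : 5 ≤ n) (hn6 : n ≠ 6) :
    HasPres (Perm (Fin n)) ∧ HasPres (alternatingGroup (Fin n)) := by
  rcases Nat.lt_or_ge n 7 with h | h
  · haveI : Fact (Nat.Prime 3) := ⟨Nat.prime_three⟩
    exact hasPres_of_prime (p := 3) (by norm_num) (by omega) (Or.inr ⟨by omega, rfl⟩)
  · obtain ⟨p, hp, h1, h2⟩ := exists_prime_near n h
    haveI : Fact p.Prime := ⟨hp⟩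
    exact hasPres_of_prime (p := p) (by omega) h1 (Or.inl h2)

end Cfsg.Agent.Lib.ShortPresSym
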