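import Cfsg.Agent.Lib.ShortPresSym.Core

/-!
# Short presentations of symmetric and alternating groups, part 6

Degrees three, four and six: Carmichael generators conjugate under the powers of one permutation.
-/

set_option autoImplicit false
set_option linter.unusedSectionVars false
set_option linter.style.haveILetI false

namespace Cfsg.Agent.Lib.ShortPresSym

open Equiv

/-- A permutation `A` moving `e` through all points other than `pa` and `pb`. -/
structure Small (Ω : Type*) [Fintype Ω] [DecidableEq Ω] where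
  /-- First point. -/
  pa : Ω
  /-- Second point. -/
  pb : Ω
  /-- The moved point. -/
  e : Ω
  /-- The permutation. -/
  A : Perm Ω
  /-- Its order on the orbit. -/
  k : ℕ
  hk : 1 ≤ k
  hk4 : k ≤ 4
  /-- The effect on the two points. -/
  s : ℤ
  hs : (A pa = pa ∧ A pb = pb ∧ s = 1) ∨ (A pa = pb ∧ A pb = pa ∧ s = -1)
  hab : pa ≠ pb
  hne : ∀ i < k, (A ^ i) e ≠ pa ∧ (A ^ i) e ≠ pb
  inj : ∀ i < k, ∀ j < k, (A ^ i) e = (A ^ j) e → i = j
  cover : ∀ v, v = pa ∨ v = pb ∨ ∃ i < k, (A ^ i) e = v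
  hAk : (A ^ k) e = e

namespace Small

variable {Ω : Type*} [Fintype Ω] [DecidableEq Ω] (S : Small Ω)

/-- The three-cycle. -/
def x : Perm Ω := cyc S.pa S.pb S.e

/-- Images of the three generators, the middle one unused. -/
def img : Fin 3 → Perm Ω := ![S.A, 1, S.x]

/-- The Carmichael words. -/
def cw (i : ℕ) : FreeGroup (Fin 3) :=
  FreeGroup.of 0 ^ i * FreeGroup.of 2 ^ (S.s ^ i) * (FreeGroup.of 0 ^ i)⁻¹

theorem e_ne : S.e ≠ S.pa ∧ S.e ≠ S.pb := by
  have := S.hne 0 S.hk
  simpa using this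

theorem x3 : S.x ^ 3 = 1 := cyc_pow_three S.hab S.e_ne.1.symm S.e_ne.2.symm

theorem s_sq : S.s * S.s = 1 := by rcases S.hs with ⟨-, -, h⟩ | ⟨-, -, h⟩ <;> rw [h] <;> norm_num

theorem s_pow (i : ℕ) : S.s ^ i = 1 ∨ S.s ^ i = -1 := by
  rcases S.hs with ⟨-, -, h⟩ | ⟨-, -, h⟩ <;> rw [h]
  · exact Or.inl (one_pow i)
  · exact neg_one_pow_eq_or ℤ i

theorem conj_x : ∀ i ≤ S.k,
    S.A ^ i * S.x ^ (S.s ^ i) * (S.A ^ i)⁻¹ = cyc S.pa S.pb ((S.A ^ i) S.e) := by
  intro i
  induction i with
  | zero => intro _; simp [x]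
  | succ i ih =>
    intro hi
    have hne := S.hne i (by omega)
    have e1 : S.A * cyc S.pa S.pb ((S.A ^ i) S.e) * S.A⁻¹ =
        cyc S.pa S.pb ((S.A ^ (i + 1)) S.e) ^ S.s := by
      rw [cyc_conj, pow_succ', Perm.mul_apply]
      rcases S.hs with ⟨h1, h2, h⟩ | ⟨h1, h2, h⟩ <;> rw [h, h1, h2]
      · rw [zpow_one]
      · have n1 : S.A ((S.A ^ i) S.e) ≠ S.pa := fun e => hne.2 (S.A.injective (e.trans h2.symm))
        have n2 : S.A ((S.A ^ i) S.e) ≠ S.pb := fun e => hne.1 (S.A.injective (e.trans h1.symm))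
        rw [zpow_neg_one, cyc_inv, cyc_rot S.hab.symm n2.symm n1.symm]
    calc S.A ^ (i + 1) * S.x ^ (S.s ^ (i + 1)) * (S.A ^ (i + 1))⁻¹
        = (S.A * (S.A ^ i * S.x ^ (S.s ^ i) * (S.A ^ i)⁻¹) * S.A⁻¹) ^ S.s := by
          rw [conj_zpow, conj_zpow, ← zpow_mul, pow_succ' S.A i, pow_succ S.s i]
          group
      _ = _ := by rw [ih (by omega), e1, ← zpow_mul, S.s_sq, zpow_one]

theorem ev_cw {i : ℕ} (hi : i ≤ S.k) :
    FreeGroup.lift S.img (S.cw i) = cyc S.pa S.pb ((S.A ^ i) S.e) := by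
  rw [← S.conj_x i hi]
  simp [cw, img]

theorem exists_word {σ : Perm Ω} (hσ : Perm.sign σ = 1) :
    ∃ w ∈ Subgroup.closure {u | ∃ i < S.k, u = S.cw i}, FreeGroup.lift S.img w = σ := by
  refine Subgroup.mem_map.1 (altOn_le (X := Finset.univ) (a := S.pa) (b := S.pb)
    (R := (Subgroup.closure {u | ∃ i < S.k, u = S.cw i}).map (FreeGroup.lift S.img))
    (Finset.mem_univ _) (Finset.mem_univ _) S.hab (fun v _ hva hvb => ?_)
    (show σ ∈ altOn Finset.univ from ⟨hσ, fun i hi => absurd (Finset.mem_univ i) hi⟩))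
  rcases S.cover v with h | h | ⟨i, hi, rfl⟩
  · exact absurd h hva
  · exact absurd h hvb
  · exact ⟨_, Subgroup.subset_closure ⟨i, hi, rfl⟩, S.ev_cw hi.le⟩

/-- The relators apart from the last. -/
def rels : List (FreeGroup (Fin 3)) :=
  [FreeGroup.of 1, FreeGroup.of 2 ^ 3, S.cw S.k * (FreeGroup.of 2)⁻¹] ++
    (List.range (S.k - 1)).map fun d => (FreeGroup.of 2 * S.cw (d + 1)) ^ 2

theorem rels_length : S.rels.length ≤ 6 := by
  have := S.hk4
  simp only [rels, List.length_append, List.length_map, List.length_range, List.length_cons,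
    List.length_nil]
  omega

theorem ev_rels : ∀ w ∈ S.rels, FreeGroup.lift S.img w = 1 := by
  intro w hw
  simp only [rels, List.mem_append, List.mem_cons, List.not_mem_nil, or_false, List.mem_map,
    List.mem_range] at hw
  rcases hw with (rfl | rfl | rfl) | ⟨d, hd, rfl⟩
  · simp [img]
  · simp [img, S.x3]
  · rw [map_mul, map_inv, S.ev_cw le_rfl, S.hAk]
    simp [img, x]
  · rw [map_pow, map_mul, S.ev_cw (by omega : d + 1 ≤ S.k)]
    have hne := S.hne (d + 1) (by omega)
    have h : S.e ≠ (S.A ^ (d + 1)) S.e := fun h => by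
      have := S.inj 0 S.hk (d + 1) (by omega) (by simpa using h)
      omega
    simpa [img, x] using cyc_mul_cyc_sq S.hab S.e_ne.1.symm S.e_ne.2.symm hne.1.symm hne.2.symm h

/-- What the relators give in a group. -/
theorem exists_base {G : Type*} [Group G] (φ : FreeGroup (Fin 3) →* G)
    (hφ : ∀ w ∈ S.rels, φ w = 1) :
    ∃ α : Perm Ω → G, IsHomOn Finset.univ α ∧
      ∃ H : Subgroup G, (∀ g ∈ H, ∃ σ ∈ altOn (Finset.univ : Finset Ω), g = α σ) ∧
        φ (FreeGroup.of 1) = 1 ∧ φ (FreeGroup.of 2) ∈ H ∧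
        (∀ i < S.k, φ (S.cw i) ∈ H) ∧
        ∀ g ∈ H, φ (FreeGroup.of 0) * g * (φ (FreeGroup.of 0))⁻¹ ∈ H := by
  classical
  set a := φ (FreeGroup.of 0)
  set b := φ (FreeGroup.of 2)
  have hcw : ∀ i, φ (S.cw i) = a ^ i * b ^ (S.s ^ i) * (a ^ i)⁻¹ := fun i => by simp [cw, a, b]
  have hb3 : b ^ 3 = 1 := by
    rw [← map_pow]; exact hφ _ (by simp [rels])
  have hk' : a ^ S.k * b ^ (S.s ^ S.k) * (a ^ S.k)⁻¹ = b := by
    have := hφ (S.cw S.k * (FreeGroup.of 2)⁻¹) (by simp [rels])
    rwa [map_mul, map_inv, mul_inv_eq_one, hcw] at this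
  have hd : ∀ d, 1 ≤ d → d < S.k → (b * φ (S.cw d)) ^ 2 = 1 := by
    intro d h1 h2
    rw [← map_mul, ← map_pow]
    obtain ⟨d, rfl⟩ := Nat.exists_eq_add_of_le h1
    refine hφ _ ?_
    simp only [rels, List.mem_append, List.mem_map, List.mem_range]
    exact Or.inr ⟨d, by omega, by rw [Nat.add_comm d 1]⟩
  have hpair : ∀ i j, i < j → j < S.k → (φ (S.cw i) * φ (S.cw j)) ^ 2 = 1 := by
    intro i j hij hj
    obtain ⟨d, rfl⟩ := Nat.exists_eq_add_of_le hij.le
    have h := hd d (by omega) (by omega)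
    have e : φ (S.cw i) * φ (S.cw (i + d)) =
        a ^ i * (b ^ (S.s ^ i) * φ (S.cw d) ^ (S.s ^ i)) * (a ^ i)⁻¹ := by
      rw [hcw, hcw, hcw, conj_zpow, ← zpow_mul, pow_add, pow_add, mul_comm (S.s ^ d)]
      group
    have h' : (b ^ (S.s ^ i) * φ (S.cw d) ^ (S.s ^ i)) ^ 2 = 1 := by
      rcases S.s_pow i with hsi | hsi <;> rw [hsi]
      · simpa using h
      · rw [zpow_neg_one, zpow_neg_one, ← mul_inv_rev, inv_pow, inv_eq_one]
        have h2 := congrArg (fun z => φ (S.cw d) * z * (φ (S.cw d))⁻¹) h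
        simp only [pow_two] at h2 ⊢
        rw [mul_one, mul_inv_cancel] at h2
        rw [← h2]
        group
    rw [e, conj_pow, h', mul_one, mul_inv_cancel]
  let idx : Ω → ℕ := fun v => if h : ∃ i < S.k, (S.A ^ i) S.e = v then h.choose else 0
  have hidx : ∀ v, v ≠ S.pa → v ≠ S.pb → idx v < S.k ∧ (S.A ^ idx v) S.e = v := by
    intro v h1 h2
    have h := ((S.cover v).resolve_left h1).resolve_left h2
    simp only [idx, dif_pos h]
    exact h.choose_spec
  obtain ⟨α, hα, hαx⟩ := exists_isHomOn (X := (Finset.univ : Finset Ω)) (a := S.pa) (b := S.pb)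
    (Finset.mem_univ _) (Finset.mem_univ _) S.hab (fun v => φ (S.cw (idx v)))
    (fun v _ h1 h2 => by
      show φ (S.cw (idx v)) ^ 3 = 1
      rw [hcw, conj_pow]
      rcases S.s_pow (idx v) with h | h <;> rw [h] <;> simp [hb3])
    (fun v _ hv1 hv2 w _ hw1 hw2 hvw => by
      obtain ⟨hv, hv'⟩ := hidx v hv1 hv2
      obtain ⟨hw, hw'⟩ := hidx w hw1 hw2
      have hne : idx v ≠ idx w := fun e => hvw (by rw [← hv', ← hw', e])
      show (φ (S.cw (idx v)) * φ (S.cw (idx w))) ^ 2 = 1
      rcases lt_or_gt_of_ne hne with h | h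
      · exact hpair _ _ h hw
      · have h2 := congrArg (fun z => φ (S.cw (idx v)) * z * (φ (S.cw (idx v)))⁻¹) (hpair _ _ h hv)
        simp only [pow_two] at h2 ⊢
        rw [mul_one, mul_inv_cancel] at h2
        rw [← h2]
        group)
  let H : Subgroup G :=
    { carrier := {g | ∃ σ ∈ altOn (Finset.univ : Finset Ω), g = α σ}
      one_mem' := ⟨1, one_mem _, hα.map_one.symm⟩
      mul_mem' := by
        rintro _ _ ⟨s, hs, rfl⟩ ⟨t, ht, rfl⟩
        exact ⟨s * t, mul_mem hs ht, (hα _ hs _ ht).symm⟩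
      inv_mem' := by
        rintro _ ⟨s, hs, rfl⟩
        exact ⟨s⁻¹, inv_mem hs, (hα.map_inv hs).symm⟩ }
  have hgen : ∀ i < S.k, φ (S.cw i) ∈ H := by
    intro i hi
    obtain ⟨h1, h2⟩ := S.hne i hi
    have hm : cyc S.pa S.pb ((S.A ^ i) S.e) ∈ altOn (Finset.univ : Finset Ω) :=
      cyc_mem_altOn (Finset.mem_univ _) (Finset.mem_univ _) (Finset.mem_univ _) S.hab h1.symm
    refine ⟨_, hm, ?_⟩
    rw [hαx _ (Finset.mem_univ _) h1 h2]
    obtain ⟨h3, h4⟩ := hidx _ h1 h2
    rw [S.inj _ h3 _ hi h4]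
  have hbH : b ∈ H := by
    have := hgen 0 S.hk
    rwa [hcw, pow_zero, pow_zero, one_mul, inv_one, mul_one, zpow_one] at this
  have hconj : ∀ i < S.k, a * φ (S.cw i) * a⁻¹ ∈ H := by
    intro i hi
    have e : a * φ (S.cw i) * a⁻¹ =
        (a ^ (i + 1) * b ^ (S.s ^ (i + 1)) * (a ^ (i + 1))⁻¹) ^ S.s := by
      rw [hcw, conj_zpow, ← zpow_mul, pow_succ S.s i, mul_assoc (S.s ^ i), S.s_sq, mul_one,
        pow_succ' a]
      group
    rw [e]
    rcases Nat.lt_or_ge (i + 1) S.k with h | h
    · rw [← hcw]; exact zpow_mem (hgen _ h) _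
    · rw [show i + 1 = S.k by omega, hk']; exact zpow_mem hbH _
  refine ⟨α, hα, H, fun g hg => hg, hφ _ (by simp [rels]), hbH, hgen, ?_⟩
  rintro _ ⟨σ, hσ, rfl⟩
  let R : Subgroup (Perm Ω) :=
    { carrier := {σ | σ ∈ altOn (Finset.univ : Finset Ω) ∧ a * α σ * a⁻¹ ∈ H}
      one_mem' := ⟨one_mem _, by rw [hα.map_one, mul_one, mul_inv_cancel]; exact one_mem H⟩
      mul_mem' := fun {s t} hs ht => ⟨mul_mem hs.1 ht.1, by
        rw [hα _ hs.1 _ ht.1, show a * (α s * α t) * a⁻¹ = a * α s * a⁻¹ * (a * α t * a⁻¹) by group]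
        exact mul_mem hs.2 ht.2⟩
      inv_mem' := fun {s} hs => ⟨inv_mem hs.1, by
        rw [hα.map_inv hs.1, show a * (α s)⁻¹ * a⁻¹ = (a * α s * a⁻¹)⁻¹ by group]
        exact inv_mem hs.2⟩ }
  refine (altOn_le (R := R) (Finset.mem_univ S.pa) (Finset.mem_univ S.pb) S.hab
    (fun v _ h1 h2 => ?_) hσ).2
  refine ⟨cyc_mem_altOn (Finset.mem_univ _) (Finset.mem_univ _) (Finset.mem_univ _) S.hab h1.symm,
    ?_⟩
  rw [hαx v (Finset.mem_univ _) h1 h2]
  exact hconj _ (hidx v h1 h2).1

theorem word_mem {G : Type*} [Group G] (φ : FreeGroup (Fin 3) →* G) {H : Subgroup G}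
    (h : ∀ i < S.k, φ (S.cw i) ∈ H) {w : FreeGroup (Fin 3)}
    (hw : w ∈ Subgroup.closure {u | ∃ i < S.k, u = S.cw i}) : φ w ∈ H := by
  have : Subgroup.closure {u | ∃ i < S.k, u = S.cw i} ≤ H.comap φ :=
    (Subgroup.closure_le _).2 fun u ⟨i, hi, hu⟩ => hu ▸ h i hi
  exact this hw

theorem closure_img (hsgn : Perm.sign S.A = -1) :
    Subgroup.closure {S.img 0, S.img 2} = ⊤ := by
  set K := Subgroup.closure ({S.img 0, S.img 2} : Set (Perm Ω))
  have hA : S.A ∈ K := Subgroup.subset_closure (Or.inl rfl)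
  have hx : S.x ∈ K := Subgroup.subset_closure (Or.inr rfl)
  have halt : altOn (Finset.univ : Finset Ω) ≤ K := by
    refine altOn_le (Finset.mem_univ S.pa) (Finset.mem_univ S.pb) S.hab fun v _ h1 h2 => ?_
    obtain ⟨i, hi, rfl⟩ := ((S.cover v).resolve_left h1).resolve_left h2
    rw [← S.conj_x i hi.le]
    exact mul_mem (mul_mem (pow_mem hA i) (zpow_mem hx _)) (inv_mem (pow_mem hA i))
  rw [eq_top_iff]
  intro σ _
  rcases Int.units_eq_one_or (Perm.sign σ) with h | h
  · exact halt ⟨h, fun i hi => absurd (Finset.mem_univ i) hi⟩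
  · have h' : σ * S.A⁻¹ ∈ K := halt ⟨by rw [map_mul, map_inv, h, hsgn]; decide,
      fun i hi => absurd (Finset.mem_univ i) hi⟩
    simpa using mul_mem h' hA

theorem hasPres_perm (hsgn : Perm.sign S.A = -1) : HasPres (Perm Ω) := by
  classical
  obtain ⟨w, hw, hev⟩ := S.exists_word (σ := S.A ^ 2) (by rw [map_pow, hsgn]; decide)
  set L := S.rels ++ [FreeGroup.of 0 ^ 2 * w⁻¹] with hL
  have hev' : ∀ u ∈ L, FreeGroup.lift S.img u = 1 := by
    intro u hu
    rw [hL, List.mem_append, List.mem_singleton] at hu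
    rcases hu with hu | rfl
    · exact S.ev_rels u hu
    · rw [map_mul, map_inv, hev]; simp [img]
  have hlen : L.length ≤ 7 := by
    have := S.rels_length
    rw [hL, List.length_append, List.length_singleton]
    omega
  refine hasPres_of_card L hlen S.img hev' (S.closure_img hsgn) ?_
  set G := PresentedGroup (↑L.toFinset : Set (FreeGroup (Fin 3)))
  let φ : FreeGroup (Fin 3) →* G := PresentedGroup.mk _
  have hφ : ∀ u ∈ L, φ u = 1 := fun u hu => PresentedGroup.one_of_mem (List.mem_toFinset.2 hu)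
  obtain ⟨α, hα, H, hH, h1, h2, hgen, hnorm⟩ :=
    S.exists_base φ fun u hu => hφ u (List.mem_append_left _ hu)
  set a := φ (FreeGroup.of 0)
  have haa : a * a ∈ H := by
    have h := hφ _ (List.mem_append_right _ (List.mem_singleton_self _))
    rw [map_mul, map_inv, map_pow, mul_inv_eq_one, pow_two] at h
    rw [h]
    exact S.word_mem φ hgen hw
  let U : Subgroup G :=
    { carrier := {g | g ∈ H ∨ g * a⁻¹ ∈ H}
      one_mem' := Or.inl (one_mem H)
      mul_mem' := by
        intro u v hu hv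
        rcases hu with hu | hu <;> rcases hv with hv | hv
        · exact Or.inl (mul_mem hu hv)
        · right; rw [mul_assoc]; exact mul_mem hu hv
        · right
          rw [show u * v * a⁻¹ = u * a⁻¹ * (a * v * a⁻¹) by group]
          exact mul_mem hu (hnorm v hv)
        · left
          rw [show u * v = u * a⁻¹ * (a * (v * a⁻¹) * a⁻¹) * (a * a) by group]
          exact mul_mem (mul_mem hu (hnorm _ hv)) haa
      inv_mem' := by
        intro u hu
        rcases hu with hu | hu
        · exact Or.inl (inv_mem hu)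
        · right
          rw [show u⁻¹ * a⁻¹ = (a * a)⁻¹ * (a * (u * a⁻¹)⁻¹ * a⁻¹) by group]
          exact mul_mem (inv_mem haa) (hnorm _ (inv_mem hu)) }
  have htop : ∀ g : G, g ∈ U := by
    intro g
    obtain ⟨u, rfl⟩ := PresentedGroup.mk_surjective _ g
    show φ u ∈ U
    induction u using FreeGroup.induction_on with
    | C1 => rw [map_one]; exact one_mem U
    | of i =>
      fin_cases i
      · exact Or.inr (by show a * a⁻¹ ∈ H; rw [mul_inv_cancel]; exact one_mem H)
      · exact Or.inl (by show φ (FreeGroup.of 1) ∈ H; rw [h1]; exact one_mem H)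
      · exact Or.inl h2
    | inv_of i ih => rw [map_inv]; exact inv_mem ih
    | mul u v hu hv => rw [map_mul]; exact mul_mem hu hv
  let F : altOn (Finset.univ : Finset Ω) × Bool → G :=
    fun q => if q.2 then α q.1 * a else α q.1
  have hFsurj : Function.Surjective F := by
    intro g
    rcases htop g with h | h
    · obtain ⟨σ, hσ, e⟩ := hH g h
      exact ⟨(⟨σ, hσ⟩, false), e.symm⟩
    · obtain ⟨σ, hσ, e⟩ := hH _ h
      exact ⟨(⟨σ, hσ⟩, true), by simp [F, ← e]⟩
  refine ⟨Finite.of_surjective F hFsurj, (Nat.card_le_card_of_surjective F hFsurj).trans ?_⟩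
  rw [Nat.card_prod, Nat.card_eq_fintype_card (α := Bool), Fintype.card_bool, mul_comm,
    two_mul_card_altOn (Finset.mem_univ S.pa) (Finset.mem_univ S.pb) S.hab,
    Nat.card_eq_fintype_card, Fintype.card_perm, Finset.card_univ]

theorem hasPres_alt (hsgn : Perm.sign S.A = 1) : HasPres (alternatingGroup Ω) := by
  classical
  obtain ⟨w, hw, hev⟩ := S.exists_word (σ := S.A) hsgn
  set L := S.rels ++ [FreeGroup.of 0 * w⁻¹] with hL
  have himg : ∀ i, S.img i ∈ alternatingGroup Ω := by
    intro i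
    fin_cases i <;> rw [Perm.mem_alternatingGroup]
    · exact hsgn
    · exact map_one _
    · exact (cyc_mem_altOn (Finset.mem_univ S.pa) (Finset.mem_univ S.pb) (Finset.mem_univ S.e) S.hab
        S.e_ne.1.symm).1
  let f : Fin 3 → alternatingGroup Ω := fun i => ⟨S.img i, himg i⟩
  have hsub : (alternatingGroup Ω).subtype.comp (FreeGroup.lift f) = FreeGroup.lift S.img := by
    ext i; simp [f]
  have hf : ∀ u ∈ L, FreeGroup.lift f u = 1 := by
    intro u hu
    refine Subtype.ext ?_
    have : FreeGroup.lift S.img u = 1 := by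
      rw [hL, List.mem_append, List.mem_singleton] at hu
      rcases hu with hu | rfl
      · exact S.ev_rels u hu
      · rw [map_mul, map_inv, hev]; simp [img]
    rw [← hsub] at this
    simpa using this
  have hK : Subgroup.closure {f 0, f 2} = ⊤ := by
    apply Subgroup.map_injective (alternatingGroup Ω).subtype_injective
    rw [← MonoidHom.range_eq_map, Subgroup.range_subtype, MonoidHom.map_closure, Set.image_pair]
    refine le_antisymm ((Subgroup.closure_le _).2 ?_) ?_
    · rintro _ (rfl | rfl)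
      · exact (f 0).2
      · exact (f 2).2
    · refine altOn_univ.symm.le.trans
        (altOn_le (Finset.mem_univ S.pa) (Finset.mem_univ S.pb) S.hab fun v _ h1 h2 => ?_)
      obtain ⟨i, hi, rfl⟩ := ((S.cover v).resolve_left h1).resolve_left h2
      rw [← S.conj_x i hi.le]
      have hA : S.A ∈ Subgroup.closure {(alternatingGroup Ω).subtype (f 0),
          (alternatingGroup Ω).subtype (f 2)} := Subgroup.subset_closure (Or.inl rfl)
      have hx : S.x ∈ Subgroup.closure {(alternatingGroup Ω).subtype (f 0),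
          (alternatingGroup Ω).subtype (f 2)} := Subgroup.subset_closure (Or.inr rfl)
      exact mul_mem (mul_mem (pow_mem hA i) (zpow_mem hx _)) (inv_mem (pow_mem hA i))
  have hlen : L.length ≤ 7 := by
    have := S.rels_length
    rw [hL, List.length_append, List.length_singleton]
    omega
  refine hasPres_of_card L hlen f hf hK ?_
  set G := PresentedGroup (↑L.toFinset : Set (FreeGroup (Fin 3)))
  let φ : FreeGroup (Fin 3) →* G := PresentedGroup.mk _
  have hφ : ∀ u ∈ L, φ u = 1 := fun u hu => PresentedGroup.one_of_mem (List.mem_toFinset.2 hu)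
  obtain ⟨α, hα, H, hH, h1, h2, hgen, hnorm⟩ :=
    S.exists_base φ fun u hu => hφ u (List.mem_append_left _ hu)
  have ha : φ (FreeGroup.of 0) ∈ H := by
    have h := hφ _ (List.mem_append_right _ (List.mem_singleton_self _))
    rw [map_mul, map_inv, mul_inv_eq_one] at h
    rw [h]
    exact S.word_mem φ hgen hw
  have htop : ∀ g : G, g ∈ H := by
    intro g
    obtain ⟨u, rfl⟩ := PresentedGroup.mk_surjective _ g
    show φ u ∈ H
    induction u using FreeGroup.induction_on with
    | C1 => rw [map_one]; exact one_mem H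
    | of i =>
      fin_cases i
      · exact ha
      · show φ (FreeGroup.of 1) ∈ H
        rw [h1]; exact one_mem H
      · exact h2
    | inv_of i ih => rw [map_inv]; exact inv_mem ih
    | mul u v hu hv => rw [map_mul]; exact mul_mem hu hv
  let F : altOn (Finset.univ : Finset Ω) → G := fun σ => α σ
  have hFsurj : Function.Surjective F := fun g => by
    obtain ⟨σ, hσ, e⟩ := hH g (htop g)
    exact ⟨⟨σ, hσ⟩, e.symm⟩
  refine ⟨Finite.of_surjective F hFsurj, (Nat.card_le_card_of_surjective F hFsurj).trans ?_⟩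
  rw [altOn_univ]

end Small

theorem hasPres_three :
    HasPres (Perm (Fin 3)) ∧ HasPres (alternatingGroup (Fin 3)) :=
  ⟨Small.hasPres_perm
    { pa := 0, pb := 1, e := 2, A := swap 0 1, k := 1, hk := le_rfl, hk4 := by omega, s := -1
      hs := by decide, hab := by decide, hne := by decide, inj := by decide, cover := by decide
      hAk := by decide } (by decide),
   Small.hasPres_alt
    { pa := 0, pb := 1, e := 2, A := 1, k := 1, hk := le_rfl, hk4 := by omega, s := 1
      hs := by decide, hab := by decide, hne := by decide, inj := by decide, cover := by decide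
      hAk := by decide } (by decide)⟩

theorem hasPres_four :
    HasPres (Perm (Fin 4)) ∧ HasPres (alternatingGroup (Fin 4)) :=
  ⟨Small.hasPres_perm
    { pa := 0, pb := 1, e := 2, A := swap 2 3, k := 2, hk := by omega, hk4 := by omega, s := 1
      hs := by decide, hab := by decide, hne := by decide, inj := by decide, cover := by decide
      hAk := by decide } (by decide),
   Small.hasPres_alt
    { pa := 0, pb := 1, e := 2, A := swap 0 1 * swap 2 3, k := 2, hk := by omega, hk4 := by omega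
      s := -1
      hs := by decide, hab := by decide, hne := by decide, inj := by decide, cover := by decide
      hAk := by decide } (by decide)⟩

theorem hasPres_six :
    HasPres (Perm (Fin 6)) ∧ HasPres (alternatingGroup (Fin 6)) :=
  ⟨Small.hasPres_perm
    { pa := 0, pb := 1, e := 2, A := swap 2 5 * swap 2 4 * swap 2 3, k := 4, hk := by omega
      hk4 := le_rfl, s := 1
      hs := by decide, hab := by decide, hne := by decide, inj := by decide, cover := by decide
      hAk := by decide } (by decide),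
   Small.hasPres_alt
    { pa := 0, pb := 1, e := 2, A := swap 0 1 * (swap 2 5 * swap 2 4 * swap 2 3), k := 4
      hk := by omega, hk4 := le_rfl, s := -1
      hs := by decide, hab := by decide, hne := by decide, inj := by decide, cover := by decide
      hAk := by decide } (by decide)⟩

end Cfsg.Agent.Lib.ShortPresSym
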