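import Cfsg.Agent.Lib.ShortPresSym.Core
import Cfsg.Agent.Lib.ShortPresSym.Instance
import Cfsg.Agent.Lib.ShortPresSym.Small

/-!
# Short presentations of symmetric and alternating groups, part 7

Change of generators: presentations on two generators.
-/

set_option autoImplicit false
set_option linter.unusedSectionVars false

namespace Cfsg.Agent.Lib.ShortPresSym

section
variable {H : Type*} [Group H]

theorem exists_two_of_words (rels : Finset (FreeGroup (Fin 3)))
    (e : PresentedGroup (↑rels : Set (FreeGroup (Fin 3))) ≃* H) (a : Fin 2 → H)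
    (W : Fin 3 → FreeGroup (Fin 2)) (hW : ∀ i, FreeGroup.lift a (W i) = e (PresentedGroup.of i))
    (v : Fin 2 → FreeGroup (Fin 3))
    (hv : ∀ j, e (PresentedGroup.mk _ (v j)) = a j) (R : Finset (FreeGroup (Fin 2)))
    (hR : ∀ j, FreeGroup.of j * (FreeGroup.lift W (v j))⁻¹ ∈ R)
    (hR' : ∀ r ∈ R, FreeGroup.lift a r = 1) [DecidableEq (FreeGroup (Fin 2))] :
    ∃ rels' : Finset (FreeGroup (Fin 2)), rels'.card ≤ rels.card + R.card ∧
      ∃ e' : PresentedGroup (↑rels' : Set (FreeGroup (Fin 2))) ≃* H,
        ∀ j, e' (PresentedGroup.of j) = a j := by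
  set rels' := rels.image (FreeGroup.lift W) ∪ R with hrels'
  have hcomp : (FreeGroup.lift a).comp (FreeGroup.lift W) =
      e.toMonoidHom.comp (PresentedGroup.mk _) := by
    ext i; simp [hW, PresentedGroup.of]
  have hF : ∀ r ∈ (↑rels' : Set (FreeGroup (Fin 2))), FreeGroup.lift a r = 1 := by
    intro r hr
    rw [Finset.mem_coe, hrels', Finset.mem_union, Finset.mem_image] at hr
    rcases hr with ⟨s, hs, rfl⟩ | hr
    · rw [← MonoidHom.comp_apply, hcomp, MonoidHom.comp_apply,
        PresentedGroup.one_of_mem (Finset.mem_coe.2 hs), map_one]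
    · exact hR' r hr
  let F := PresentedGroup.toGroup hF
  let ι : Fin 3 → PresentedGroup (↑rels' : Set (FreeGroup (Fin 2))) :=
    fun i => PresentedGroup.mk _ (W i)
  have hι : FreeGroup.lift ι = (PresentedGroup.mk _).comp (FreeGroup.lift W) := by
    ext i; simp [ι]
  have hΨ : ∀ r ∈ (↑rels : Set (FreeGroup (Fin 3))), FreeGroup.lift ι r = 1 := by
    intro r hr
    rw [hι, MonoidHom.comp_apply]
    exact PresentedGroup.one_of_mem
      (Finset.mem_coe.2 (Finset.mem_union_left _ (Finset.mem_image_of_mem _ hr)))
  let Ψ := PresentedGroup.toGroup hΨ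
  have hΨmk : ∀ w, Ψ (PresentedGroup.mk _ w) = FreeGroup.lift ι w := fun w => by
    have : Ψ.comp (PresentedGroup.mk _) = FreeGroup.lift ι := by ext i; simp [Ψ, ← PresentedGroup.of.eq_def]
    exact DFunLike.congr_fun this w
  have hgen : ∀ j, PresentedGroup.of j = Ψ (PresentedGroup.mk _ (v j)) := by
    intro j
    rw [hΨmk, hι, MonoidHom.comp_apply]
    have h := PresentedGroup.one_of_mem (rels := (↑rels' : Set (FreeGroup (Fin 2))))
      (Finset.mem_coe.2 (Finset.mem_union_right _ (hR j)))
    rw [map_mul, map_inv, mul_inv_eq_one] at h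
    exact h
  have hsurj : Function.Surjective Ψ := by
    rw [← MonoidHom.range_eq_top, eq_top_iff, ← PresentedGroup.closure_range_of,
      Subgroup.closure_le]
    rintro _ ⟨j, rfl⟩
    exact ⟨_, (hgen j).symm⟩
  have hFΨ : F.comp Ψ = e.toMonoidHom := by
    refine PresentedGroup.ext fun i => ?_
    show F (Ψ (PresentedGroup.of i)) = e (PresentedGroup.of i)
    rw [PresentedGroup.toGroup.of, ← hW]
    have : F.comp (PresentedGroup.mk _) = FreeGroup.lift a := by
      ext j; simp [F, ← PresentedGroup.of.eq_def]
    exact DFunLike.congr_fun this (W i)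
  have hbij : Function.Bijective F := by
    have hb : Function.Bijective (F ∘ Ψ) := by
      rw [← MonoidHom.coe_comp, hFΨ]; exact e.bijective
    refine ⟨?_, hb.2.of_comp⟩
    intro x y hxy
    obtain ⟨x, rfl⟩ := hsurj x
    obtain ⟨y, rfl⟩ := hsurj y
    rw [hb.1 hxy]
  refine ⟨rels', (Finset.card_union_le _ _).trans (Nat.add_le_add_right Finset.card_image_le _),
    MulEquiv.ofBijective F hbij, fun j => ?_⟩
  show F (PresentedGroup.of j) = a j
  exact PresentedGroup.toGroup.of hF

/-- Two generators and eight relators. -/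
theorem HasPres.two_eight (h : HasPres H) :
    ∃ rels : Finset (FreeGroup (Fin 2)), rels.card ≤ 8 ∧
      Nonempty (PresentedGroup (↑rels : Set (FreeGroup (Fin 2))) ≃* H) := by
  classical
  obtain ⟨rels, hcard, e, hgen⟩ := h
  set a : Fin 2 → H := ![e (PresentedGroup.of 0), e (PresentedGroup.of 2)] with ha
  have hsurj : Function.Surjective (FreeGroup.lift a) := by
    rw [← MonoidHom.range_eq_top, FreeGroup.range_lift_eq_closure, ← hgen, ha,
      Matrix.range_cons, Matrix.range_cons, Matrix.range_empty, Set.union_empty, Set.singleton_union]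
  choose W hW using fun i => hsurj (e (PresentedGroup.of i))
  let W' : Fin 3 → FreeGroup (Fin 2) := ![FreeGroup.of 0, W 1, FreeGroup.of 1]
  have hW' : ∀ i, FreeGroup.lift a (W' i) = e (PresentedGroup.of i) := by
    intro i
    fin_cases i
    · simp [W', a]
    · exact hW 1
    · simp [W', a]
  obtain ⟨rels', hc, e', -⟩ := exists_two_of_words rels e a W' hW'
    ![FreeGroup.of 0, FreeGroup.of 2]
    (fun j => by fin_cases j <;> simp [a, ← PresentedGroup.of.eq_def]) {1}
    (fun j => by fin_cases j <;> simp [W']) (by simp)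
  exact ⟨rels', hc.trans (by simp; omega), ⟨e'⟩⟩

/-- Any generating pair carries a presentation with nine relators. -/
theorem HasPres.pair_nine (h : HasPres H) (a b : H)
    (hab : Subgroup.closure ({a, b} : Set H) = ⊤) :
    ∃ rels : Finset (FreeGroup (Fin 2)), rels.card ≤ 9 ∧
      ∃ e : PresentedGroup (↑rels : Set (FreeGroup (Fin 2))) ≃* H,
        e (PresentedGroup.of 0) = a ∧ e (PresentedGroup.of 1) = b := by
  classical
  obtain ⟨rels, hcard, e, -⟩ := h
  have hsurj : Function.Surjective (FreeGroup.lift ![a, b]) := by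
    rw [← MonoidHom.range_eq_top, FreeGroup.range_lift_eq_closure, ← hab,
      Matrix.range_cons, Matrix.range_cons, Matrix.range_empty, Set.union_empty, Set.singleton_union]
  choose W hW using fun i => hsurj (e (PresentedGroup.of i))
  choose v hv using fun j => PresentedGroup.mk_surjective (↑rels : Set (FreeGroup (Fin 3)))
    (e.symm (![a, b] j))
  have hv' : ∀ j, e (PresentedGroup.mk _ (v j)) = ![a, b] j := fun j => by
    rw [hv, MulEquiv.apply_symm_apply]
  obtain ⟨rels', hc, e', he'⟩ := exists_two_of_words rels e ![a, b] W hW v hv'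
    {FreeGroup.of 0 * (FreeGroup.lift W (v 0))⁻¹, FreeGroup.of 1 * (FreeGroup.lift W (v 1))⁻¹}
    (fun j => by fin_cases j <;> simp)
    (by
      have key : ∀ w, FreeGroup.lift ![a, b] (FreeGroup.lift W w) = e (PresentedGroup.mk _ w) := by
        intro w
        have : (FreeGroup.lift ![a, b]).comp (FreeGroup.lift W) =
            e.toMonoidHom.comp (PresentedGroup.mk _) := by
          ext i; simp [hW, PresentedGroup.of]
        exact DFunLike.congr_fun this w
      intro r hr
      simp only [Finset.mem_insert, Finset.mem_singleton] at hr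
      rcases hr with rfl | rfl <;>
        rw [map_mul, map_inv, key, hv', FreeGroup.lift_apply_of, mul_inv_cancel])
  refine ⟨rels', hc.trans ?_, e', by simpa using he' 0, by simpa using he' 1⟩
  have := Finset.card_le_two (a := FreeGroup.of 0 * (FreeGroup.lift W (v 0))⁻¹)
    (b := FreeGroup.of 1 * (FreeGroup.lift W (v 1))⁻¹)
  omega

end

/-- Every symmetric and alternating group of degree at least five has the short presentation. -/
theorem hasPres_all (n : ℕ) (hn : 5 ≤ n) :
    HasPres (Equiv.Perm (Fin n)) ∧ HasPres (alternatingGroup (Fin n)) := by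
  rcases eq_or_ne n 6 with rfl | h
  · exact hasPres_six
  · exact hasPres_seven n hn h

end Cfsg.Agent.Lib.ShortPresSym
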