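import Mathlib

/-!
# Short presentations of symmetric and alternating groups, part 1

The even permutations of a finite set of points, three-cycles through two fixed points, and the
universal property given by Carmichael's relations `x i ^ 3 = (x i * x j) ^ 2 = 1`.
-/

set_option autoImplicit false
set_option linter.unusedSectionVars false
set_option linter.style.haveILetI false

namespace Cfsg.Agent.Lib.ShortPresSym

open Equiv

section cyc

variable {Ω : Type*} [DecidableEq Ω]

/-- The three-cycle `a ↦ b ↦ i ↦ a`. -/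
def cyc (a b i : Ω) : Perm Ω := swap a i * swap a b

variable {a b i j x : Ω}

theorem cyc_apply_left (hab : a ≠ b) (hbi : b ≠ i) : cyc a b i a = b := by
  simp [cyc, swap_apply_of_ne_of_ne hab.symm hbi]

theorem cyc_apply_mid : cyc a b i b = i := by simp [cyc]

theorem cyc_apply_right (hai : a ≠ i) (hbi : b ≠ i) : cyc a b i i = a := by
  simp [cyc, swap_apply_of_ne_of_ne hai.symm hbi.symm]

theorem cyc_apply_ne (ha : x ≠ a) (hb : x ≠ b) (hi : x ≠ i) : cyc a b i x = x := by
  simp [cyc, swap_apply_of_ne_of_ne ha hb, swap_apply_of_ne_of_ne ha hi]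

theorem cyc_conj (σ : Perm Ω) (a b i : Ω) : σ * cyc a b i * σ⁻¹ = cyc (σ a) (σ b) (σ i) := by
  simp only [cyc, swap_apply_apply]
  group

theorem cyc_inv (a b i : Ω) : (cyc a b i)⁻¹ = cyc a i b := by simp [cyc, mul_inv_rev]

theorem cyc_inv_apply_left (hai : a ≠ i) (hbi : b ≠ i) : (cyc a b i)⁻¹ a = i := by
  rw [cyc_inv]; exact cyc_apply_left hai hbi.symm

theorem cyc_inv_apply_mid (hab : a ≠ b) (hbi : b ≠ i) : (cyc a b i)⁻¹ b = a := by
  rw [cyc_inv]; exact cyc_apply_right hab hbi.symm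

theorem cyc_inv_apply_ne (ha : x ≠ a) (hb : x ≠ b) (hi : x ≠ i) : (cyc a b i)⁻¹ x = x := by
  rw [cyc_inv]; exact cyc_apply_ne ha hi hb

theorem cyc_rot (hab : a ≠ b) (hai : a ≠ i) (hbi : b ≠ i) : cyc a b i = cyc b i a := by
  ext x
  by_cases hxa : x = a
  · subst hxa; rw [cyc_apply_left hab hbi, cyc_apply_right hab.symm hai.symm]
  by_cases hxb : x = b
  · subst hxb; rw [cyc_apply_mid, cyc_apply_left hbi hai.symm]
  by_cases hxi : x = i
  · subst hxi; rw [cyc_apply_right hai hbi, cyc_apply_mid]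
  rw [cyc_apply_ne hxa hxb hxi, cyc_apply_ne hxb hxi hxa]

theorem cyc_sq (hab : a ≠ b) (hai : a ≠ i) (hbi : b ≠ i) :
    cyc a b i * cyc a b i = cyc a i b := by
  ext x
  rw [Perm.mul_apply]
  by_cases hxa : x = a
  · subst hxa; rw [cyc_apply_left hab hbi, cyc_apply_mid, cyc_apply_left hai hbi.symm]
  by_cases hxb : x = b
  · subst hxb; rw [cyc_apply_mid, cyc_apply_right hai hbi, cyc_apply_right hab hbi.symm]
  by_cases hxi : x = i
  · subst hxi; rw [cyc_apply_right hai hbi, cyc_apply_left hab hbi, cyc_apply_mid]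
  rw [cyc_apply_ne hxa hxb hxi, cyc_apply_ne hxa hxb hxi, cyc_apply_ne hxa hxi hxb]

theorem cyc_pow_three (hab : a ≠ b) (hai : a ≠ i) (hbi : b ≠ i) : cyc a b i ^ 3 = 1 := by
  rw [pow_succ, pow_two, cyc_sq hab hai hbi, ← cyc_inv, inv_mul_cancel]

theorem cyc_mul_cyc (hab : a ≠ b) (hai : a ≠ i) (hbi : b ≠ i) (haj : a ≠ j) (hbj : b ≠ j)
    (hij : i ≠ j) : cyc a b i * cyc a b j = swap a i * swap b j := by
  ext x
  simp only [Perm.mul_apply]
  by_cases hxa : x = a
  · subst hxa
    rw [cyc_apply_left hab hbj, cyc_apply_mid, swap_apply_of_ne_of_ne hab haj, swap_apply_left]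
  by_cases hxb : x = b
  · subst hxb
    rw [cyc_apply_mid, cyc_apply_ne haj.symm hbj.symm hij.symm, swap_apply_left,
      swap_apply_of_ne_of_ne haj.symm hij.symm]
  by_cases hxi : x = i
  · subst hxi
    rw [cyc_apply_ne hai.symm hbi.symm hij, cyc_apply_right hai hbi,
      swap_apply_of_ne_of_ne hbi.symm hij, swap_apply_right]
  by_cases hxj : x = j
  · subst hxj
    rw [cyc_apply_right haj hbj, cyc_apply_left hab hbi, swap_apply_right,
      swap_apply_of_ne_of_ne hab.symm hbi]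
  rw [cyc_apply_ne hxa hxb hxj, cyc_apply_ne hxa hxb hxi, swap_apply_of_ne_of_ne hxb hxj,
    swap_apply_of_ne_of_ne hxa hxi]

theorem cyc_mul_cyc_sq (hab : a ≠ b) (hai : a ≠ i) (hbi : b ≠ i) (haj : a ≠ j) (hbj : b ≠ j)
    (hij : i ≠ j) : (cyc a b i * cyc a b j) ^ 2 = 1 := by
  rw [cyc_mul_cyc hab hai hbi haj hbj hij]
  have h : Commute (swap a i) (swap b j) := by
    have e := swap_apply_apply (swap a i) b j
    rw [swap_apply_of_ne_of_ne hab.symm hbi, swap_apply_of_ne_of_ne haj.symm hij.symm] at e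
    exact (mul_inv_eq_iff_eq_mul.1 e.symm)
  rw [h.mul_pow, pow_two, pow_two, swap_mul_self, swap_mul_self, mul_one]

end cyc

section altOn

variable {Ω : Type*} [Fintype Ω] [DecidableEq Ω]

/-- The even permutations fixing every point outside `X`. -/
def altOn (X : Finset Ω) : Subgroup (Perm Ω) where
  carrier := {σ | Perm.sign σ = 1 ∧ ∀ i, i ∉ X → σ i = i}
  one_mem' := ⟨map_one _, fun _ _ => rfl⟩
  mul_mem' := by
    rintro σ τ ⟨h1, h2⟩ ⟨h3, h4⟩
    exact ⟨by rw [map_mul, h1, h3, mul_one], fun i hi => by rw [Perm.mul_apply, h4 i hi, h2 i hi]⟩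
  inv_mem' := by
    rintro σ ⟨h1, h2⟩
    refine ⟨by rw [map_inv, h1, inv_one], fun i hi => ?_⟩
    rw [Perm.inv_eq_iff_eq, h2 i hi]

variable {X Y : Finset Ω} {a b i : Ω} {σ : Perm Ω}

theorem mem_altOn : σ ∈ altOn X ↔ Perm.sign σ = 1 ∧ ∀ i, i ∉ X → σ i = i := Iff.rfl

theorem altOn_mono (h : X ⊆ Y) : altOn X ≤ altOn Y :=
  fun _ hσ => ⟨hσ.1, fun i hi => hσ.2 i fun hiX => hi (h hiX)⟩

theorem altOn_univ : altOn (Finset.univ : Finset Ω) = alternatingGroup Ω := by
  ext σ
  simp [mem_altOn, Perm.mem_alternatingGroup]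

theorem cyc_mem_altOn (ha : a ∈ X) (hb : b ∈ X) (hi : i ∈ X) (hab : a ≠ b) (hai : a ≠ i) :
    cyc a b i ∈ altOn X := by
  refine ⟨by simp [cyc, Perm.sign_swap hab, Perm.sign_swap hai], fun x hx => ?_⟩
  exact cyc_apply_ne (fun e : x = a => hx (e ▸ ha)) (fun e : x = b => hx (e ▸ hb))
    (fun e : x = i => hx (e ▸ hi))

theorem apply_mem_of_altOn (hσ : σ ∈ altOn X) (hi : i ∈ X) : σ i ∈ X := by
  by_contra h
  have := hσ.2 _ h
  exact h (by rw [σ.injective this]; exact hi)

theorem conj_mem_altOn (hσ : σ ∈ altOn X) (τ : Perm Ω) : τ * σ * τ⁻¹ ∈ altOn (X.image τ) := by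
  refine ⟨by simp [hσ.1], fun i hi => ?_⟩
  have : τ⁻¹ i ∉ X := fun h => hi (Finset.mem_image.2 ⟨_, h, by rw [Perm.inv_def, Equiv.apply_symm_apply]⟩)
  rw [Perm.mul_apply, Perm.mul_apply, hσ.2 _ this, Perm.inv_def, Equiv.apply_symm_apply]

/-- A permutation fixing `X` pointwise commutes with every element of `altOn X`. -/
theorem commute_of_fix (hσ : σ ∈ altOn X) (τ : Perm Ω) (hτ : ∀ i ∈ X, τ i = i) : Commute τ σ := by
  refine Equiv.ext fun i => ?_
  simp only [Perm.mul_apply]
  by_cases hi : i ∈ X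
  · rw [hτ i hi, hτ _ (apply_mem_of_altOn hσ hi)]
  · rw [hσ.2 i hi]
    refine (hσ.2 _ fun h => hi ?_).symm
    have := hτ _ h
    rw [← τ.injective this]
    exact h

theorem swap_mul_swap_mem {R : Subgroup (Perm Ω)} (hab : a ≠ b)
    (hR : ∀ i ∈ X, i ≠ a → i ≠ b → cyc a b i ∈ R) {y : Ω} (hy : y ∈ X) (hya : y ≠ a) :
    swap a y * swap a b ∈ R ∧ swap a b * swap a y ∈ R := by
  by_cases hyb : y = b
  · subst hyb; rw [swap_mul_self]; exact ⟨one_mem _, one_mem _⟩
  · have h := hR y hy hya hyb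
    refine ⟨h, ?_⟩
    have := inv_mem h
    rwa [cyc_inv] at this

/-- Three-cycles through two points generate. -/
theorem altOn_le {R : Subgroup (Perm Ω)} (ha : a ∈ X) (hb : b ∈ X) (hab : a ≠ b)
    (hR : ∀ i ∈ X, i ≠ a → i ≠ b → cyc a b i ∈ R) : altOn X ≤ R := by
  set R' := Subgroup.closure {g | ∃ i ∈ X, i ≠ a ∧ i ≠ b ∧ g = cyc a b i} with hR'
  have hR'le : R' ≤ R ⊓ altOn X := by
    rw [hR', Subgroup.closure_le]
    rintro _ ⟨i, hi, hia, hib, rfl⟩
    exact ⟨hR i hi hia hib, cyc_mem_altOn ha hb hi hab hia.symm⟩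
  have hR'' : ∀ i ∈ X, i ≠ a → i ≠ b → cyc a b i ∈ R' := fun i hi hia hib =>
    Subgroup.subset_closure ⟨i, hi, hia, hib, rfl⟩
  have hconj : ∀ f ∈ R', swap a b * f * (swap a b)⁻¹ ∈ R' := by
    intro f hf
    rw [hR'] at hf
    induction hf using Subgroup.closure_induction with
    | mem x hx =>
      obtain ⟨i, hi, hia, hib, rfl⟩ := hx
      rw [cyc_conj, swap_apply_left, swap_apply_right, swap_apply_of_ne_of_ne hia hib,
        cyc_rot hab.symm hib.symm hia.symm, ← cyc_inv]
      exact inv_mem (hR'' i hi hia hib)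
    | one => simp [one_mem]
    | mul x y _ _ hx hy =>
      have := mul_mem hx hy
      simpa [mul_assoc] using this
    | inv x _ hx =>
      have := inv_mem hx
      simpa [mul_assoc] using this
  set τ := swap a b with hτ
  have hswap : ∀ x ∈ X, ∀ y ∈ X, x ≠ y → swap x y * τ ∈ R' ∧ τ * swap x y ∈ R' := by
    intro x hx y hy hxy
    by_cases hxa : x = a
    · subst hxa
      exact swap_mul_swap_mem hab hR'' hy hxy.symm
    by_cases hya : y = a
    · subst hya
      rw [swap_comm]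
      exact swap_mul_swap_mem hab hR'' hx hxa
    obtain ⟨h1, h1'⟩ := swap_mul_swap_mem hab hR'' hx hxa
    obtain ⟨h2, h2'⟩ := swap_mul_swap_mem hab hR'' hy hya
    have e : swap a x * swap a y * swap a x = swap x y := by
      have h := swap_apply_apply (swap a x) a y
      rw [swap_apply_left, swap_apply_of_ne_of_ne hya hxy.symm, swap_inv] at h
      exact h.symm
    constructor
    · have : swap x y * τ = (swap a x * τ) * (τ * swap a y) * (swap a x * τ) := by
        rw [← e, hτ]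
        simp only [mul_assoc, swap_mul_self_mul]
      rw [this]; exact mul_mem (mul_mem h1 h2') h1
    · have : τ * swap x y = (τ * swap a x) * (swap a y * τ) * (τ * swap a x) := by
        rw [← e, hτ]
        simp only [mul_assoc, swap_mul_self_mul]
      rw [this]; exact mul_mem (mul_mem h1' h2) h1'
  intro σ hσ
  suffices key : σ ∈ R' ∨ σ * τ ∈ R' by
    rcases key with h | h
    · exact (hR'le h).1
    · exfalso
      have h2 := (hR'le h).2.1
      rw [map_mul, hσ.1, hτ, Perm.sign_swap hab] at h2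
      exact absurd h2 (by decide)
  obtain ⟨σ', rfl⟩ : ∃ σ' : Perm {i // i ∈ X}, Perm.ofSubtype σ' = σ := by
    refine ⟨σ.subtypePerm fun i => ⟨fun hi => ?_, fun hi => apply_mem_of_altOn hσ hi⟩,
      Perm.ofSubtype_subtypePerm _ fun i hi => by_contra fun h => hi (hσ.2 i h)⟩
    by_contra h
    rw [hσ.2 i h] at hi
    exact h hi
  clear hσ
  induction σ' using Perm.swap_induction_on with
  | one => exact Or.inl (by simp [one_mem])
  | swap_mul f x y hxy ih =>
    obtain ⟨h1, h2⟩ := hswap x x.2 y y.2 (fun e => hxy (Subtype.ext e))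
    rw [map_mul, Perm.ofSubtype_swap_eq]
    rcases ih with ih | ih
    · right
      have key : swap (x : Ω) y * Perm.ofSubtype f * τ =
          (swap (x : Ω) y * τ) * (τ * Perm.ofSubtype f * τ⁻¹) := by
        rw [hτ, swap_inv]; simp only [mul_assoc, swap_mul_self_mul]
      rw [key]
      exact mul_mem h1 (hconj _ ih)
    · left
      have key : swap (x : Ω) y * Perm.ofSubtype f =
          (swap (x : Ω) y * τ) * (τ * (Perm.ofSubtype f * τ) * τ⁻¹) := by
        rw [hτ, swap_inv]; simp only [mul_assoc, swap_mul_self_mul, swap_mul_self, mul_one]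
      rw [key]
      exact mul_mem h1 (hconj _ ih)

theorem closure_cyc (ha : a ∈ X) (hb : b ∈ X) (hab : a ≠ b) :
    Subgroup.closure {g | ∃ i ∈ X, i ≠ a ∧ i ≠ b ∧ g = cyc a b i} = altOn X := by
  refine le_antisymm ((Subgroup.closure_le _).2 ?_)
    (altOn_le ha hb hab fun i hi hia hib => Subgroup.subset_closure ⟨i, hi, hia, hib, rfl⟩)
  rintro _ ⟨i, hi, hia, hib, rfl⟩
  exact cyc_mem_altOn ha hb hi hab hia.symm

/-- Two point sets sharing two points. -/
theorem altOn_union_le {R : Subgroup (Perm Ω)} {S T : Finset Ω} (haS : a ∈ S) (haT : a ∈ T)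
    (hbS : b ∈ S) (hbT : b ∈ T) (hab : a ≠ b) (hS : altOn S ≤ R) (hT : altOn T ≤ R) :
    altOn (S ∪ T) ≤ R := by
  refine altOn_le (Finset.mem_union_left _ haS) (Finset.mem_union_left _ hbS) hab
    fun i hi hia hib => ?_
  rcases Finset.mem_union.1 hi with hi | hi
  · exact hS (cyc_mem_altOn haS hbS hi hab hia.symm)
  · exact hT (cyc_mem_altOn haT hbT hi hab hia.symm)

theorem altOn_eq_map (X : Finset Ω) :
    altOn X = (alternatingGroup X).map (Perm.ofSubtype : Perm X →* Perm Ω) := by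
  ext σ
  rw [alternatingGroup.map_ofSubtype, Subgroup.mem_inf, Perm.mem_range_ofSubtype_iff,
    Perm.mem_alternatingGroup, mem_altOn, and_comm]
  refine and_congr_left fun _ => ⟨fun h => ?_, fun h i hi => ?_⟩
  · intro i hi
    by_contra hiX
    exact (Perm.mem_support.1 hi) (h i hiX)
  · by_contra hne
    exact hi (h (Perm.mem_support.2 hne))

theorem two_mul_card_altOn (ha : a ∈ X) (hb : b ∈ X) (hab : a ≠ b) :
    2 * Nat.card (altOn X) = X.card.factorial := by
  haveI : Nontrivial X := ⟨⟨a, ha⟩, ⟨b, hb⟩, fun e => hab (congrArg Subtype.val e)⟩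
  rw [altOn_eq_map, ← Nat.card_congr ((alternatingGroup X).equivMapOfInjective _
    Perm.ofSubtype_injective).toEquiv, Nat.card_eq_fintype_card, two_mul_card_alternatingGroup,
    Fintype.card_perm, Fintype.card_coe]

end altOn

section carmichael

variable {G : Type*} [Group G]

/-- Carmichael's bound. -/
theorem carm_bound (x : ℕ → G) : ∀ n, (∀ i < n, x i ^ 3 = 1) →
    (∀ i < n, ∀ j < n, i ≠ j → (x i * x j) ^ 2 = 1) →
    Finite (Subgroup.closure (x '' Set.Iio n)) ∧
      2 * Nat.card (Subgroup.closure (x '' Set.Iio n)) ≤ (n + 2).factorial := by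
  classical
  intro n
  induction n with
  | zero =>
    intro _ _
    have h : Subgroup.closure (x '' Set.Iio 0) = ⊥ := by simp
    refine ⟨by rw [h]; infer_instance, ?_⟩
    rw [h]; simp
  | succ n ih =>
    intro h3 h2
    obtain ⟨hfin, hcard⟩ := ih (fun i hi => h3 i (by omega))
      (fun i hi j hj => h2 i (by omega) j (by omega))
    set H := Subgroup.closure (x '' Set.Iio n) with hH
    set K := Subgroup.closure (x '' Set.Iio (n + 1)) with hK
    set u := x n with hu
    have hu3 : u * u * u = 1 := by rw [← h3 n (by omega), pow_succ, pow_two]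
    have hxH : ∀ j < n, x j ∈ H := fun j hj => Subgroup.subset_closure ⟨j, hj, rfl⟩
    let rep : Fin 3 ⊕ Fin n → G := Sum.elim ![1, u, u * u] fun j => u * (x j)⁻¹
    let f : H × (Fin 3 ⊕ Fin n) → G := fun q => (q.1 : G) * rep q.2
    have hmem : ∀ (h : G) (q : Fin 3 ⊕ Fin n), h ∈ H → h * rep q ∈ Set.range f :=
      fun h q hh => ⟨(⟨h, hh⟩, q), rfl⟩
    have hux : ∀ j < n, u * x j = (x j)⁻¹ * u⁻¹ ∧ x j * u = u⁻¹ * (x j)⁻¹ ∧
        x j * u * x j = u⁻¹ := by
      intro j hj
      have e := h2 n (by omega) j (by omega) (by omega)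
      rw [pow_two, ← hu] at e
      have a1 : u * x j = (u * x j)⁻¹ := eq_inv_of_mul_eq_one_left e
      rw [mul_inv_rev] at a1
      have a2 : x j * u = u⁻¹ * (x j)⁻¹ := by
        calc x j * u = u⁻¹ * (u * x j) * u := by group
          _ = u⁻¹ * ((x j)⁻¹ * u⁻¹) * u := by rw [← a1]
          _ = u⁻¹ * (x j)⁻¹ := by group
      exact ⟨a1, a2, by rw [a2, inv_mul_cancel_right]⟩
    have hx2 : ∀ j < n + 1, x j * x j = (x j)⁻¹ := fun j hj =>
      eq_inv_of_mul_eq_one_left (by rw [← h3 j hj, pow_succ, pow_two])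
    have hu2 : u * u = u⁻¹ := hx2 n (by omega)
    have huux : ∀ j < n, u * u * x j = x j * (u * (x j)⁻¹) := by
      intro j hj
      obtain ⟨-, -, e⟩ := hux j hj
      rw [hu2, ← e, mul_assoc (x j * u), hx2 j (by omega), mul_assoc]
    have hstep : ∀ k < n + 1, ∀ g ∈ Set.range f, g * x k ∈ Set.range f := by
      rintro k hk _ ⟨⟨⟨h, hh⟩, q⟩, rfl⟩
      show h * rep q * x k ∈ Set.range f
      rcases Nat.lt_or_ge k n with hkn | hkn
      · obtain ⟨e1, e1', -⟩ := hux k hkn
        rcases q with t | j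
        · fin_cases t
          · simpa [rep] using hmem (h * x k) (Sum.inl 0) (mul_mem hh (hxH k hkn))
          · have e : h * u * x k = h * (x k)⁻¹ * (u * u) := by
              rw [mul_assoc, e1, hu2, mul_assoc]
            simpa [rep, e] using hmem (h * (x k)⁻¹) (Sum.inl 2) (mul_mem hh (inv_mem (hxH k hkn)))
          · have e : h * (u * u) * x k = h * x k * (u * (x k)⁻¹) := by
              rw [mul_assoc, huux k hkn, mul_assoc]
            simpa [rep, e] using hmem (h * x k) (Sum.inr ⟨k, hkn⟩) (mul_mem hh (hxH k hkn))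
        · by_cases hjk : (j : ℕ) = k
          · have e : h * (u * (x j)⁻¹) * x k = h * u := by
              rw [hjk, mul_assoc, inv_mul_cancel_right]
            simpa [rep, e] using hmem h (Sum.inl 1) hh
          · obtain ⟨f1, -, -⟩ := hux j j.isLt
            have g1 : (x j * x k) * (x j * x k) = 1 := by
              have := h2 j (by omega) k (by omega) hjk
              rwa [pow_two] at this
            have g2 : (x k)⁻¹ * (x j)⁻¹ = x j * x k := by
              rw [← mul_inv_rev]; exact inv_eq_of_mul_eq_one_right g1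
            have e : h * (u * (x j)⁻¹) * x k = h * ((x j)⁻¹ * x k) * (u * (x j)⁻¹) := by
              calc h * (u * (x j)⁻¹) * x k = h * (u * (x j * (x j * x k))) := by
                    rw [← hx2 j (by omega)]; simp only [mul_assoc]
                _ = h * ((u * x j) * ((x k)⁻¹ * (x j)⁻¹)) := by rw [g2]; simp only [mul_assoc]
                _ = h * ((x j)⁻¹ * (u⁻¹ * (x k)⁻¹) * (x j)⁻¹) := by rw [f1]; simp only [mul_assoc]
                _ = h * ((x j)⁻¹ * x k) * (u * (x j)⁻¹) := by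
                    rw [← e1']; simp only [mul_assoc]
            simpa [rep, e] using hmem (h * ((x j)⁻¹ * x k)) (Sum.inr j)
              (mul_mem hh (mul_mem (inv_mem (hxH j j.isLt)) (hxH k hkn)))
      · obtain rfl : k = n := by omega
        rcases q with t | j
        · fin_cases t
          · simpa [rep] using hmem h (Sum.inl 1) hh
          · simpa [rep, mul_assoc] using hmem h (Sum.inl 2) hh
          · have e : h * (u * u) * x k = h := by
              rw [hu2, ← hu, inv_mul_cancel_right]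
            simpa [rep, e] using hmem h (Sum.inl 0) hh
        · obtain ⟨f1, f1', -⟩ := hux j j.isLt
          have f2 := huux j j.isLt
          have f3 : x j * u * x j = u⁻¹ := (hux j j.isLt).2.2
          have e : h * (u * (x j)⁻¹) * x k = h * (x j * x j) * (u * (x j)⁻¹) := by
            have a : u * (x j)⁻¹ * u = x j * x j * (u * (x j)⁻¹) := by
              have hz : (x j : G)⁻¹ = u * x j * u := by rw [f1, inv_mul_cancel_right]
              calc u * (x j)⁻¹ * u = u * u * x j * (u * u) := by rw [hz]; simp only [mul_assoc]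
                _ = x j * u * ((x j)⁻¹ * u⁻¹) := by rw [f2, hu2]; simp only [mul_assoc]
                _ = x j * (u * u * x j) := by rw [← f1]; simp only [mul_assoc]
                _ = _ := by rw [f2]; simp only [mul_assoc]
            rw [← hu, mul_assoc, a]; simp only [mul_assoc]
          simpa [rep, e] using hmem (h * (x j * x j)) (Sum.inr j)
            (mul_mem hh (mul_mem (hxH j j.isLt) (hxH j j.isLt)))
    have hsub : ∀ g ∈ K, g ∈ Set.range f := by
      intro g hg
      rw [hK] at hg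
      induction hg using Subgroup.closure_induction_right with
      | one => exact ⟨(⟨1, one_mem _⟩, Sum.inl 0), by simp [f, rep]⟩
      | mul_right g _ y hy ih =>
        obtain ⟨k, hk, rfl⟩ := hy
        exact hstep k hk g ih
      | mul_inv_cancel g _ y hy ih =>
        obtain ⟨k, hk, rfl⟩ := hy
        rw [← hx2 k hk, ← mul_assoc]
        exact hstep k hk _ (hstep k hk g ih)
    haveI := hfin
    have hKfin : (K : Set G).Finite := (Set.finite_range f).subset hsub
    refine ⟨hKfin.to_subtype, ?_⟩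
    have h1 : Nat.card K ≤ Nat.card H * (n + 3) := by
      have := Nat.card_mono (Set.finite_range f) hsub
      refine this.trans ((Finite.card_range_le f).trans ?_)
      rw [Nat.card_prod, Nat.card_eq_fintype_card (α := Fin 3 ⊕ Fin n), Fintype.card_sum,
        Fintype.card_fin, Fintype.card_fin, add_comm 3 n]
    calc 2 * Nat.card K ≤ (n + 3) * (2 * Nat.card H) := by
          rw [show (n + 3) * (2 * Nat.card H) = 2 * (Nat.card H * (n + 3)) by ring]
          exact Nat.mul_le_mul_left 2 h1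
      _ ≤ (n + 3) * (n + 2).factorial := Nat.mul_le_mul_left _ hcard
      _ = (n + 1 + 2).factorial := (Nat.factorial_succ (n + 2)).symm

/-- `α` is a homomorphism on `altOn X`. -/
def IsHomOn {Ω : Type*} [Fintype Ω] [DecidableEq Ω] (X : Finset Ω) (α : Perm Ω → G) : Prop :=
  ∀ σ ∈ altOn X, ∀ τ ∈ altOn X, α (σ * τ) = α σ * α τ

section
variable {Ω : Type*} [Fintype Ω] [DecidableEq Ω] {X Y : Finset Ω} {α β : Perm Ω → G}
variable {a b : Ω} {σ τ : Perm Ω}

theorem IsHomOn.map_one (h : IsHomOn X α) : α 1 = 1 :=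
  mul_left_cancel (a := α 1) (by rw [← h 1 (one_mem _) 1 (one_mem _), mul_one, mul_one])

theorem IsHomOn.map_inv (h : IsHomOn X α) (hσ : σ ∈ altOn X) : α σ⁻¹ = (α σ)⁻¹ :=
  eq_inv_of_mul_eq_one_left (by rw [← h _ (inv_mem hσ) _ hσ, inv_mul_cancel, h.map_one])

theorem IsHomOn.map_pow (h : IsHomOn X α) (hσ : σ ∈ altOn X) (n : ℕ) : α (σ ^ n) = α σ ^ n := by
  induction n with
  | zero => rw [pow_zero, pow_zero, h.map_one]
  | succ n ih => rw [pow_succ, pow_succ, h _ (pow_mem hσ n) _ hσ, ih]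

theorem IsHomOn.map_conj (h : IsHomOn X α) (hτ : τ ∈ altOn X) (hσ : σ ∈ altOn X) :
    α (τ * σ * τ⁻¹) = α τ * α σ * (α τ)⁻¹ := by
  rw [h _ (mul_mem hτ hσ) _ (inv_mem hτ), h _ hτ _ hσ, h.map_inv hτ]

theorem IsHomOn.mono (h : IsHomOn X α) (hYX : Y ⊆ X) : IsHomOn Y α :=
  fun σ hσ τ hτ => h σ (altOn_mono hYX hσ) τ (altOn_mono hYX hτ)

theorem IsHomOn.commute (h : IsHomOn X α) (hσ : σ ∈ altOn X) (hτ : τ ∈ altOn X)
    (hc : Commute σ τ) : Commute (α σ) (α τ) := by
  show α σ * α τ = α τ * α σ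
  rw [← h _ hσ _ hτ, ← h _ hτ _ hσ, hc.eq]

/-- The set on which two homomorphisms agree is a subgroup. -/
def IsHomOn.eqOn (hα : IsHomOn X α) (hβ : IsHomOn X β) : Subgroup (Perm Ω) where
  carrier := {σ | σ ∈ altOn X ∧ α σ = β σ}
  one_mem' := ⟨one_mem _, by rw [hα.map_one, hβ.map_one]⟩
  mul_mem' := fun {σ τ} hσ hτ =>
    ⟨mul_mem hσ.1 hτ.1, by rw [hα _ hσ.1 _ hτ.1, hβ _ hσ.1 _ hτ.1, hσ.2, hτ.2]⟩
  inv_mem' := fun {σ} hσ => ⟨inv_mem hσ.1, by rw [hα.map_inv hσ.1, hβ.map_inv hσ.1, hσ.2]⟩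

theorem IsHomOn.ext (hα : IsHomOn X α) (hβ : IsHomOn X β) (ha : a ∈ X) (hb : b ∈ X) (hab : a ≠ b)
    (h : ∀ i ∈ X, i ≠ a → i ≠ b → α (cyc a b i) = β (cyc a b i)) :
    ∀ σ ∈ altOn X, α σ = β σ := fun _ hσ =>
  (altOn_le (R := hα.eqOn hβ) ha hb hab
    (fun i hi hia hib => ⟨cyc_mem_altOn ha hb hi hab hia.symm, h i hi hia hib⟩) hσ).2

/-- The universal property of Carmichael's presentation. -/
theorem exists_isHomOn (ha : a ∈ X) (hb : b ∈ X) (hab : a ≠ b) (x : Ω → G)
    (h3 : ∀ i ∈ X, i ≠ a → i ≠ b → x i ^ 3 = 1)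
    (h2 : ∀ i ∈ X, i ≠ a → i ≠ b → ∀ j ∈ X, j ≠ a → j ≠ b → i ≠ j → (x i * x j) ^ 2 = 1) :
    ∃ α : Perm Ω → G, IsHomOn X α ∧ ∀ i ∈ X, i ≠ a → i ≠ b → α (cyc a b i) = x i := by
  classical
  set I := (X.erase a).erase b with hI
  have hIcard : I.card + 2 = X.card := by
    have h1 : b ∈ X.erase a := Finset.mem_erase.2 ⟨hab.symm, hb⟩
    have h2' := Finset.card_erase_add_one h1
    have := Finset.card_erase_add_one ha
    rw [← hI] at h2'
    omega
  let e : Fin I.card ≃ I := I.equivFin.symm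
  have hemem : ∀ k, ((e k : Ω) ∈ X ∧ (e k : Ω) ≠ a ∧ (e k : Ω) ≠ b) := fun k => by
    have := (e k).2
    obtain ⟨q1, q2⟩ := Finset.mem_erase.1 this
    obtain ⟨q3, q4⟩ := Finset.mem_erase.1 q2
    exact ⟨q4, q3, q1⟩
  let R : Set (FreeGroup (Fin I.card)) :=
    {g | ∃ i, g = FreeGroup.of i ^ 3} ∪
      {g | ∃ i j, i ≠ j ∧ g = (FreeGroup.of i * FreeGroup.of j) ^ 2}
  have hperm : ∀ r ∈ R, FreeGroup.lift (fun k => cyc a b (e k : Ω)) r = 1 := by
    rintro r (⟨i, rfl⟩ | ⟨i, j, hij, rfl⟩)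
    · simp [cyc_pow_three hab (hemem i).2.1.symm (hemem i).2.2.symm]
    · have hne : (e i : Ω) ≠ e j := fun h => hij (e.injective (Subtype.ext h))
      simp [cyc_mul_cyc_sq hab (hemem i).2.1.symm (hemem i).2.2.symm (hemem j).2.1.symm
        (hemem j).2.2.symm hne]
  have hG : ∀ r ∈ R, FreeGroup.lift (fun k => x (e k : Ω)) r = 1 := by
    rintro r (⟨i, rfl⟩ | ⟨i, j, hij, rfl⟩)
    · simp [h3 _ (hemem i).1 (hemem i).2.1 (hemem i).2.2]
    · have hne : (e i : Ω) ≠ e j := fun h => hij (e.injective (Subtype.ext h))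
      simp [h2 _ (hemem i).1 (hemem i).2.1 (hemem i).2.2 _ (hemem j).1 (hemem j).2.1 (hemem j).2.2
        hne]
  let θ := PresentedGroup.toGroup hperm
  have hrange : θ.range = altOn X := by
    rw [← closure_cyc ha hb hab, MonoidHom.range_eq_map, ← PresentedGroup.closure_range_of R,
      MonoidHom.map_closure]
    congr 1
    ext g
    constructor
    · rintro ⟨_, ⟨k, rfl⟩, rfl⟩
      exact ⟨e k, (hemem k).1, (hemem k).2.1, (hemem k).2.2, by simp [θ]⟩
    · rintro ⟨i, hi, hia, hib, rfl⟩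
      have hmem : i ∈ I := Finset.mem_erase.2 ⟨hib, Finset.mem_erase.2 ⟨hia, hi⟩⟩
      refine ⟨_, ⟨e.symm ⟨i, hmem⟩, rfl⟩, ?_⟩
      simp [θ]
  let y : ℕ → PresentedGroup R := fun k => if h : k < I.card then PresentedGroup.of ⟨k, h⟩ else 1
  obtain ⟨hfin, hle⟩ := carm_bound y I.card
    (fun i hi => by
      simp only [y, dif_pos hi, PresentedGroup.of, ← _root_.map_pow]
      exact PresentedGroup.one_of_mem (Or.inl ⟨_, rfl⟩))
    (fun i hi j hj hij => by
      simp only [y, dif_pos hi, dif_pos hj, PresentedGroup.of, ← _root_.map_mul, ← _root_.map_pow]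
      exact PresentedGroup.one_of_mem (Or.inr ⟨_, _, fun h => hij (Fin.ext_iff.1 h), rfl⟩))
  have htop : Subgroup.closure (y '' Set.Iio I.card) = ⊤ := by
    rw [eq_top_iff, ← PresentedGroup.closure_range_of R]
    refine Subgroup.closure_mono ?_
    rintro _ ⟨i, rfl⟩
    exact ⟨i, i.isLt, by simp [y]⟩
  rw [htop] at hfin hle
  haveI : Finite (PresentedGroup R) := Finite.of_equiv _ Subgroup.topEquiv.toEquiv
  rw [Subgroup.card_top] at hle
  have hbij : Function.Bijective θ.rangeRestrict := by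
    refine θ.rangeRestrict_surjective.bijective_of_nat_card_le ?_
    have h1 : 2 * Nat.card θ.range = (I.card + 2).factorial := by
      rw [hrange, two_mul_card_altOn ha hb hab, hIcard]
    omega
  let E := MulEquiv.ofBijective θ.rangeRestrict hbij
  let φ : PresentedGroup R →* G := PresentedGroup.toGroup hG
  refine ⟨fun σ => if h : σ ∈ θ.range then φ (E.symm ⟨σ, h⟩) else 1, ?_, ?_⟩
  · intro σ hσ τ hτ
    rw [← hrange] at hσ hτ
    simp only
    rw [dif_pos hσ, dif_pos hτ, dif_pos (mul_mem hσ hτ), ← _root_.map_mul, ← _root_.map_mul]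
    rfl
  · intro i hi hia hib
    have hmem : i ∈ I := Finset.mem_erase.2 ⟨hib, Finset.mem_erase.2 ⟨hia, hi⟩⟩
    have hk : θ (PresentedGroup.of (e.symm ⟨i, hmem⟩)) = cyc a b i := by simp [θ]
    simp only
    rw [dif_pos (show cyc a b i ∈ θ.range from ⟨_, hk⟩)]
    have hE : E.symm ⟨cyc a b i, ⟨_, hk⟩⟩ = PresentedGroup.of (e.symm ⟨i, hmem⟩) := by
      rw [MulEquiv.symm_apply_eq]
      exact Subtype.ext hk.symm
    rw [hE]
    simp [φ]

end

end carmichael

end Cfsg.Agent.Lib.ShortPresSym
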