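import Cfsg.Agent.Lib.ShortPresSym.AltOn

/-!
# Short presentations of symmetric and alternating groups, part 3

The four-relator presentation of the alternating group on `p + 2` points, `p` an odd prime:
`x ^ 3 = a ^ p`, `b a ^ s b⁻¹ = a ^ (s - 1)`, `b x b⁻¹ = x⁻¹`, `(x * a x a⁻¹) ^ 2 = 1`, where `b` is
a word in the conjugates of `x` by powers of `a`.
-/

set_option autoImplicit false
set_option linter.unusedSectionVars false
set_option linter.style.haveILetI false

namespace Cfsg.Agent.Lib.ShortPresSym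

open Equiv

variable {Ω : Type*} [Fintype Ω] [DecidableEq Ω] {p : ℕ} [Fact p.Prime]

/-- The points of a copy of the affine line, two further points, and the two affine maps. -/
structure Affine (Ω : Type*) [Fintype Ω] [DecidableEq Ω] (p : ℕ) [Fact p.Prime] where
  /-- The points of the line. -/
  ι : ZMod p → Ω
  inj : Function.Injective ι
  /-- First extra point. -/
  pa : Ω
  /-- Second extra point. -/
  pb : Ω
  hab : pa ≠ pb
  ha : ∀ i, ι i ≠ pa
  hb : ∀ i, ι i ≠ pb
  /-- A generator of the multiplicative group. -/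
  r : ZMod p
  hr : ∀ j : ZMod p, j ≠ 0 → ∃ k : ℕ, r ^ k = j
  hr1 : r ≠ 1
  /-- The translation. -/
  a0 : Perm Ω
  /-- The dilation, exchanging the extra points. -/
  b0 : Perm Ω
  a0_even : Perm.sign a0 = 1
  b0_even : Perm.sign b0 = 1
  a0_apply : ∀ i, a0 (ι i) = ι (i + 1)
  a0_pa : a0 pa = pa
  a0_pb : a0 pb = pb
  a0_fix : ∀ v, (∀ i, ι i ≠ v) → v ≠ pa → v ≠ pb → a0 v = v
  b0_apply : ∀ i, b0 (ι i) = ι (r * i)
  b0_pa : b0 pa = pb
  b0_pb : b0 pb = pa
  b0_fix : ∀ v, (∀ i, ι i ≠ v) → v ≠ pa → v ≠ pb → b0 v = v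

theorem exists_affine (hp : p ≠ 2) (ι : ZMod p → Ω) (inj : Function.Injective ι) (pa pb : Ω)
    (hab : pa ≠ pb) (ha : ∀ i, ι i ≠ pa) (hb : ∀ i, ι i ≠ pb) :
    ∃ A : Affine Ω p, A.ι = ι ∧ A.pa = pa ∧ A.pb = pb := by
  classical
  obtain ⟨u, hu⟩ := IsCyclic.exists_generator (α := (ZMod p)ˣ)
  set r : ZMod p := (u : ZMod p) with hrdef
  have hr : ∀ j : ZMod p, j ≠ 0 → ∃ k : ℕ, r ^ k = j := by
    intro j hj
    obtain ⟨k, hk⟩ := (mem_powers_iff_mem_zpowers.2 (hu (Units.mk0 j hj)) :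
      Units.mk0 j hj ∈ Submonoid.powers u)
    refine ⟨k, ?_⟩
    rw [hrdef, ← Units.val_pow_eq_pow_val, show u ^ k = Units.mk0 j hj from hk, Units.val_mk0]
  have hp2 : 2 < p := lt_of_le_of_ne (Fact.out : p.Prime).two_le (Ne.symm hp)
  haveI : Fact (2 < p) := ⟨hp2⟩
  have hr0 : r ≠ 0 := u.ne_zero
  have hr1 : r ≠ 1 := by
    intro h
    obtain ⟨k, hk⟩ := hr (-1) (neg_ne_zero.2 one_ne_zero)
    rw [h, one_pow] at hk
    exact ZMod.neg_one_ne_one hk.symm
  let f : ZMod p ⊕ Bool ↪ Ω :=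
    ⟨Sum.elim ι (fun t => if t then pb else pa), inj.sumElim
      (fun s t h => by cases s <;> cases t <;> simp_all [eq_comm])
      (fun i t => by cases t <;> simp [ha i, hb i])⟩
  have f_a : f (Sum.inr false) = pa := rfl
  have f_b : f (Sum.inr true) = pb := rfl
  have f_i : ∀ i, f (Sum.inl i) = ι i := fun i => rfl
  let T : Perm (ZMod p) := Equiv.addRight 1
  let M : Perm (ZMod p) := Equiv.mulLeft₀ r hr0
  have hT : Perm.sign T = 1 := by
    have hTp : T ^ p = 1 := by
      ext i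
      have : ∀ n : ℕ, (T ^ n) i = i + n := by
        intro n
        induction n with
        | zero => simp
        | succ n ih => rw [pow_succ', Perm.mul_apply, ih]; simp [T]; ring
      simp [this p]
    have h := congrArg Perm.sign hTp
    rw [map_pow, map_one] at h
    rcases Int.units_eq_one_or (Perm.sign T) with h1 | h1
    · exact h1
    · rw [h1, Odd.neg_one_pow ((Fact.out : p.Prime).odd_of_ne_two hp)] at h
      exact absurd h (by decide)
  have hMpow : ∀ (k : ℕ) (i : ZMod p), (M ^ k) i = r ^ k * i := by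
    intro k i
    induction k with
    | zero => simp
    | succ k ih => rw [pow_succ', Perm.mul_apply, ih, pow_succ']; simp [M, mul_assoc]
  have hMcyc : M.IsCycle := by
    refine ⟨1, by simpa [M] using hr1, fun j hj => ?_⟩
    have hj0 : j ≠ 0 := fun h => hj (by simp [M, h])
    obtain ⟨k, hk⟩ := hr j hj0
    exact ⟨k, by rw [zpow_natCast, hMpow, mul_one, hk]⟩
  have hM : Perm.sign M = -1 := by
    have hsupp : M.support = Finset.univ.erase 0 := by
      ext i
      simp only [Perm.mem_support, Finset.mem_erase, Finset.mem_univ, and_true]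
      show r * i ≠ i ↔ i ≠ 0
      refine ⟨fun h e => h (by simp [e]), fun h e => hr1 ?_⟩
      exact mul_right_cancel₀ h (by rw [e, one_mul])
    rw [hMcyc.sign, hsupp, Finset.card_erase_of_mem (Finset.mem_univ _), Finset.card_univ,
      ZMod.card, Even.neg_one_pow ((Fact.out : p.Prime).even_sub_one hp)]
  refine ⟨{ ι := ι, inj := inj, pa := pa, pb := pb, hab := hab, ha := ha, hb := hb, r := r
            hr := hr, hr1 := hr1
            a0 := Perm.viaFintypeEmbedding (Equiv.sumCongr T (1 : Perm Bool)) f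
            b0 := Perm.viaFintypeEmbedding (Equiv.sumCongr M (Equiv.swap false true)) f
            a0_even := ?_, b0_even := ?_, a0_apply := fun i => ?_, a0_pa := ?_, a0_pb := ?_
            a0_fix := fun v h1 h2 h3 => ?_, b0_apply := fun i => ?_, b0_pa := ?_, b0_pb := ?_
            b0_fix := fun v h1 h2 h3 => ?_ }, rfl, rfl, rfl⟩
  · rw [Perm.viaFintypeEmbedding_sign, Perm.sign_sumCongr, hT, map_one, mul_one]
  · rw [Perm.viaFintypeEmbedding_sign, Perm.sign_sumCongr, hM, Perm.sign_swap (by decide)]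
    decide
  · rw [← f_i, Perm.viaFintypeEmbedding_apply_image]; rfl
  · rw [← f_a, Perm.viaFintypeEmbedding_apply_image]; rfl
  · rw [← f_b, Perm.viaFintypeEmbedding_apply_image]; rfl
  · refine Perm.viaFintypeEmbedding_apply_notMem_range _ _ ?_
    rintro ⟨(i | t), h⟩
    · exact h1 i h
    · cases t
      · exact h2 h.symm
      · exact h3 h.symm
  · rw [← f_i, Perm.viaFintypeEmbedding_apply_image]; rfl
  · rw [← f_a, Perm.viaFintypeEmbedding_apply_image]; rfl
  · rw [← f_b, Perm.viaFintypeEmbedding_apply_image]; rfl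
  · refine Perm.viaFintypeEmbedding_apply_notMem_range _ _ ?_
    rintro ⟨(i | t), h⟩
    · exact h1 i h
    · cases t
      · exact h2 h.symm
      · exact h3 h.symm

namespace Affine

variable (A : Affine Ω p)

/-- All `p + 2` points. -/
def X : Finset Ω := insert A.pa (insert A.pb (Finset.univ.image A.ι))

/-- The three-cycle. -/
def x0 : Perm Ω := cyc A.pa A.pb (A.ι 0)

theorem pa_mem : A.pa ∈ A.X := Finset.mem_insert_self _ _

theorem pb_mem : A.pb ∈ A.X := Finset.mem_insert_of_mem (Finset.mem_insert_self _ _)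

theorem ι_mem (i : ZMod p) : A.ι i ∈ A.X :=
  Finset.mem_insert_of_mem (Finset.mem_insert_of_mem (Finset.mem_image_of_mem _ (Finset.mem_univ i)))

theorem mem_X {v : Ω} (hv : v ∈ A.X) (h1 : v ≠ A.pa) (h2 : v ≠ A.pb) : ∃ i, A.ι i = v := by
  simp only [X, Finset.mem_insert, Finset.mem_image, Finset.mem_univ, true_and] at hv
  tauto

theorem a0_mem : A.a0 ∈ altOn A.X :=
  ⟨A.a0_even, fun v hv => A.a0_fix v (fun i h => hv (h ▸ A.ι_mem i))
    (fun h => hv (h ▸ A.pa_mem)) (fun h => hv (h ▸ A.pb_mem))⟩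

theorem b0_mem : A.b0 ∈ altOn A.X :=
  ⟨A.b0_even, fun v hv => A.b0_fix v (fun i h => hv (h ▸ A.ι_mem i))
    (fun h => hv (h ▸ A.pa_mem)) (fun h => hv (h ▸ A.pb_mem))⟩

theorem x0_mem : A.x0 ∈ altOn A.X :=
  cyc_mem_altOn A.pa_mem A.pb_mem (A.ι_mem 0) A.hab (A.ha 0).symm

theorem a0_pow (k : ℕ) (i : ZMod p) : (A.a0 ^ k) (A.ι i) = A.ι (i + k) := by
  induction k with
  | zero => simp
  | succ k ih => rw [pow_succ', Perm.mul_apply, ih, A.a0_apply]; push_cast; ring_nf

theorem conj_x0 (k : ℕ) : A.a0 ^ k * A.x0 * (A.a0 ^ k)⁻¹ = cyc A.pa A.pb (A.ι k) := by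
  rw [x0, cyc_conj, A.a0_pow, zero_add, Perm.pow_apply_eq_self_of_apply_eq_self A.a0_pa,
    Perm.pow_apply_eq_self_of_apply_eq_self A.a0_pb]

/-- The permutations attached to the three generators, the third being irrelevant here. -/
def genImg (z : Perm Ω) : Fin 3 → Perm Ω := ![A.a0, A.x0, z]

/-- Words in conjugates of `x` by powers of `a`. -/
def V : Subgroup (FreeGroup (Fin 3)) :=
  Subgroup.closure (Set.range fun i : ℕ =>
    FreeGroup.of 0 ^ i * FreeGroup.of 1 * (FreeGroup.of 0 ^ i)⁻¹)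

theorem exists_word_V (z : Perm Ω) {σ : Perm Ω} (hσ : σ ∈ altOn A.X) :
    ∃ w ∈ V, FreeGroup.lift (A.genImg z) w = σ := by
  have h : altOn A.X ≤ V.map (FreeGroup.lift (A.genImg z)) := by
    refine altOn_le A.pa_mem A.pb_mem A.hab fun v hv h1 h2 => ?_
    obtain ⟨i, rfl⟩ := A.mem_X hv h1 h2
    refine ⟨_, Subgroup.subset_closure ⟨i.val, rfl⟩, ?_⟩
    simp [genImg, A.conj_x0]
  exact Subgroup.mem_map.1 (h hσ)

/-- Words in `a` and `x`. -/
def W : Subgroup (FreeGroup (Fin 3)) := Subgroup.closure {FreeGroup.of 0, FreeGroup.of 1}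

theorem V_le_W : V ≤ W := by
  rw [V, Subgroup.closure_le]
  rintro _ ⟨i, rfl⟩
  have h0 : FreeGroup.of (0 : Fin 3) ∈ W := Subgroup.subset_closure (Or.inl rfl)
  have h1 : FreeGroup.of (1 : Fin 3) ∈ W := Subgroup.subset_closure (Or.inr rfl)
  exact mul_mem (mul_mem (pow_mem h0 i) h1) (inv_mem (pow_mem h0 i))

theorem lift_W_mem (z : Perm Ω) {w : FreeGroup (Fin 3)} (hw : w ∈ W) :
    FreeGroup.lift (A.genImg z) w ∈ altOn A.X := by
  have h : W ≤ (altOn A.X).comap (FreeGroup.lift (A.genImg z)) := by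
    rw [W, Subgroup.closure_le]
    rintro _ (rfl | rfl) <;> simp [genImg, A.a0_mem, A.x0_mem]
  exact h hw

/-- A fixed word for the dilation. -/
noncomputable def bWord : FreeGroup (Fin 3) := (A.exists_word_V 1 A.b0_mem).choose

theorem bWord_mem : A.bWord ∈ V := (A.exists_word_V 1 A.b0_mem).choose_spec.1

/-- On words in `a` and `x` the third generator does not matter. -/
theorem lift_W_eq (z z' : Perm Ω) {w : FreeGroup (Fin 3)} (hw : w ∈ W) :
    FreeGroup.lift (A.genImg z) w = FreeGroup.lift (A.genImg z') w := by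
  refine MonoidHom.eqOn_closure (f := FreeGroup.lift (A.genImg z))
    (g := FreeGroup.lift (A.genImg z')) ?_ hw
  rintro _ (rfl | rfl) <;> simp [genImg]

theorem lift_bWord (z : Perm Ω) : FreeGroup.lift (A.genImg z) A.bWord = A.b0 := by
  rw [A.lift_W_eq z 1 (V_le_W A.bWord_mem)]
  exact (A.exists_word_V 1 A.b0_mem).choose_spec.2

/-- The exponent in the metacyclic relation. -/
def s : ℕ := ((1 - A.r)⁻¹).val

theorem s_cast : ((A.s : ℕ) : ZMod p) * (1 - A.r) = 1 := by
  rw [s, ZMod.natCast_zmod_val, inv_mul_cancel₀ (sub_ne_zero.2 A.hr1.symm)]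

theorem one_le_s : 1 ≤ A.s := by
  refine Nat.one_le_iff_ne_zero.2 fun h => ?_
  have := A.s_cast
  rw [h, Nat.cast_zero, zero_mul] at this
  exact zero_ne_one this

/-- The four relators. -/
noncomputable def rels : List (FreeGroup (Fin 3)) :=
  [FreeGroup.of 1 ^ 3 * (FreeGroup.of 0 ^ p)⁻¹,
    A.bWord * FreeGroup.of 0 ^ A.s * A.bWord⁻¹ * (FreeGroup.of 0 ^ (A.s - 1))⁻¹,
    A.bWord * FreeGroup.of 1 * A.bWord⁻¹ * FreeGroup.of 1,
    (FreeGroup.of 1 * (FreeGroup.of 0 * FreeGroup.of 1 * (FreeGroup.of 0)⁻¹)) ^ 2]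

theorem b0_conj : A.b0 * A.x0 * A.b0⁻¹ = A.x0⁻¹ := by
  rw [x0, cyc_conj, A.b0_pa, A.b0_pb, A.b0_apply, mul_zero, cyc_inv,
    cyc_rot A.hab.symm (A.hb 0).symm (A.ha 0).symm]

theorem a0_pow_eq {m n : ℕ} (h : (m : ZMod p) = n) : A.a0 ^ m = A.a0 ^ n := by
  ext v
  by_cases h1 : ∃ i, A.ι i = v
  · obtain ⟨i, rfl⟩ := h1
    rw [A.a0_pow, A.a0_pow, h]
  · have hfix : A.a0 v = v := by
      by_cases h2 : v = A.pa
      · rw [h2, A.a0_pa]
      by_cases h3 : v = A.pb
      · rw [h3, A.a0_pb]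
      exact A.a0_fix v (fun i hi => h1 ⟨i, hi⟩) h2 h3
    rw [Perm.pow_apply_eq_self_of_apply_eq_self hfix, Perm.pow_apply_eq_self_of_apply_eq_self hfix]

theorem b0_conj_a0 : A.b0 * A.a0 * A.b0⁻¹ = A.a0 ^ A.r.val := by
  ext v
  rw [Perm.mul_apply, Perm.mul_apply]
  obtain ⟨w, rfl⟩ := A.b0.surjective v
  rw [Perm.inv_def, Equiv.symm_apply_apply]
  by_cases h1 : ∃ i, A.ι i = w
  · obtain ⟨i, rfl⟩ := h1
    rw [A.a0_apply, A.b0_apply, A.b0_apply, A.a0_pow, ZMod.natCast_zmod_val, mul_add, mul_one]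
  · by_cases h2 : w = A.pa
    · rw [h2, A.a0_pa, A.b0_pa, Perm.pow_apply_eq_self_of_apply_eq_self A.a0_pb]
    by_cases h3 : w = A.pb
    · rw [h3, A.a0_pb, A.b0_pb, Perm.pow_apply_eq_self_of_apply_eq_self A.a0_pa]
    have hi : ∀ i, A.ι i ≠ w := fun i hi => h1 ⟨i, hi⟩
    rw [A.a0_fix w hi h2 h3, A.b0_fix w hi h2 h3,
      Perm.pow_apply_eq_self_of_apply_eq_self (A.a0_fix w hi h2 h3)]

theorem lift_rels (z : Perm Ω) : ∀ w ∈ A.rels, FreeGroup.lift (A.genImg z) w = 1 := by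
  intro w hw
  simp only [rels, List.mem_cons, List.not_mem_nil, or_false] at hw
  have h0 : FreeGroup.lift (A.genImg z) (FreeGroup.of 0) = A.a0 := by simp [genImg]
  have h1 : FreeGroup.lift (A.genImg z) (FreeGroup.of 1) = A.x0 := by simp [genImg]
  rcases hw with rfl | rfl | rfl | rfl <;>
    simp only [map_mul, map_inv, map_pow, h0, h1, A.lift_bWord]
  · rw [x0, cyc_pow_three A.hab (A.ha 0).symm (A.hb 0).symm,
      A.a0_pow_eq (m := p) (n := 0) (by simp), pow_zero, inv_one, mul_one]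
  · rw [← conj_pow, A.b0_conj_a0, ← pow_mul, A.a0_pow_eq (m := A.r.val * A.s) (n := A.s - 1) ?_,
      mul_inv_cancel]
    have := A.s_cast
    rw [Nat.cast_mul, Nat.cast_sub A.one_le_s, ZMod.natCast_zmod_val, Nat.cast_one]
    linear_combination -this
  · rw [A.b0_conj, inv_mul_cancel]
  · have h := A.conj_x0 1
    rw [pow_one, Nat.cast_one] at h
    rw [h, x0]
    exact cyc_mul_cyc_sq A.hab (A.ha 0).symm (A.hb 0).symm (A.ha 1).symm (A.hb 1).symm
      (fun h => zero_ne_one (A.inj h))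

/-- The four relations determine the group. -/
theorem exists_hom {G : Type*} [Group G] (φ : FreeGroup (Fin 3) →* G)
    (hφ : ∀ w ∈ A.rels, φ w = 1) (z : Perm Ω) :
    ∃ α : Perm Ω → G, IsHomOn A.X α ∧
      ∀ w ∈ W, α (FreeGroup.lift (A.genImg z) w) = φ w := by
  classical
  simp only [rels, List.forall_mem_cons, map_mul, map_inv, map_pow] at hφ
  set a := φ (FreeGroup.of 0)
  set x := φ (FreeGroup.of 1)
  set B := φ A.bWord
  obtain ⟨e1, e2, e3, e4, -⟩ := hφ
  rw [mul_inv_eq_one] at e1 e2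
  rw [mul_eq_one_iff_eq_inv] at e3
  -- `a ^ p` is trivial
  have hBC : Commute B (a ^ p) := by
    have hV : V ≤ (Subgroup.centralizer ({a ^ p} : Set G)).comap φ := by
      rw [V, Subgroup.closure_le]
      rintro _ ⟨i, rfl⟩
      rw [SetLike.mem_coe, Subgroup.mem_comap, map_mul, map_mul, map_inv, map_pow]
      have ha : a ∈ Subgroup.centralizer ({a ^ p} : Set G) :=
        Subgroup.mem_centralizer_singleton_iff.2 ((Commute.refl a).pow_right p).eq
      have hx : x ∈ Subgroup.centralizer ({a ^ p} : Set G) :=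
        Subgroup.mem_centralizer_singleton_iff.2 (by rw [← e1]; exact ((Commute.refl x).pow_right 3).eq)
      exact mul_mem (mul_mem (pow_mem ha i) hx) (inv_mem (pow_mem ha i))
    exact Subgroup.mem_centralizer_singleton_iff.1 (hV A.bWord_mem)
  have hap : a ^ p = 1 := by
    have h1 : (B * a ^ A.s * B⁻¹) ^ p = (a ^ p) ^ A.s := by
      rw [conj_pow, ← pow_mul, mul_comm, pow_mul, (hBC.pow_right A.s).eq, mul_inv_cancel_right]
    rw [e2, ← pow_mul, mul_comm, pow_mul] at h1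
    have h2 : (a ^ p) ^ A.s = (a ^ p) ^ (A.s - 1) * a ^ p := by
      rw [← pow_succ, Nat.sub_add_cancel A.one_le_s]
    rw [h2] at h1
    exact left_eq_mul.1 h1
  have hpow : ∀ {m n : ℕ}, (m : ZMod p) = n → a ^ m = a ^ n := by
    intro m n h
    rw [pow_eq_pow_mod m hap, pow_eq_pow_mod n hap, ((ZMod.natCast_eq_natCast_iff' m n p).1 h)]
  have hBa : B * a * B⁻¹ = a ^ A.r.val := by
    have h1 : a = (a ^ A.s) ^ (1 - A.r).val := by
      rw [← pow_mul, hpow (m := A.s * (1 - A.r).val) (n := 1) (by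
        rw [Nat.cast_mul, ZMod.natCast_zmod_val, A.s_cast, Nat.cast_one]), pow_one]
    calc B * a * B⁻¹ = (B * a ^ A.s * B⁻¹) ^ (1 - A.r).val := by rw [conj_pow, ← h1]
      _ = a ^ ((A.s - 1) * (1 - A.r).val) := by rw [e2, ← pow_mul]
      _ = _ := by
        refine hpow ?_
        rw [Nat.cast_mul, Nat.cast_sub A.one_le_s, ZMod.natCast_zmod_val, ZMod.natCast_zmod_val,
          Nat.cast_one, sub_mul, A.s_cast, one_mul, sub_sub_cancel]
  let xi : ZMod p → G := fun i => a ^ i.val * x * (a ^ i.val)⁻¹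
  have hxi : ∀ n : ℕ, a ^ n * x * (a ^ n)⁻¹ = xi n := fun n => by
    simp only [xi]
    rw [hpow (ZMod.natCast_zmod_val (n : ZMod p))]
  have hxi3 : ∀ i, xi i ^ 3 = 1 := fun i => by
    simp only [xi]
    rw [conj_pow, e1, hap, mul_one, mul_inv_cancel]
  have hBxi : ∀ i, B * xi i * B⁻¹ = (xi (A.r * i))⁻¹ := by
    intro i
    calc B * xi i * B⁻¹ = (B * a * B⁻¹) ^ i.val * (B * x * B⁻¹) * ((B * a * B⁻¹) ^ i.val)⁻¹ := by
          simp only [xi]; rw [conj_pow]; group
      _ = (a ^ (A.r.val * i.val) * x * (a ^ (A.r.val * i.val))⁻¹)⁻¹ := by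
          rw [e3, hBa, ← pow_mul]; group
      _ = _ := by
          rw [hxi, Nat.cast_mul, ZMod.natCast_zmod_val, ZMod.natCast_zmod_val]
  have hshift : ∀ i, a * xi i * a⁻¹ = xi (i + 1) := by
    intro i
    calc a * xi i * a⁻¹ = a ^ (i.val + 1) * x * (a ^ (i.val + 1))⁻¹ := by
          simp only [xi]; rw [pow_succ']; group
      _ = _ := by rw [hxi, Nat.cast_add, ZMod.natCast_zmod_val, Nat.cast_one]
  have hsym : ∀ i j, (xi i * xi j) ^ 2 = 1 → (xi j * xi i) ^ 2 = 1 := by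
    intro i j h
    calc (xi j * xi i) ^ 2 = (xi i)⁻¹ * (xi i * xi j) ^ 2 * xi i := by
          rw [pow_two, pow_two]; group
      _ = 1 := by rw [h]; group
  have hsh : ∀ i j, (xi i * xi j) ^ 2 = 1 → ∀ n : ℕ, (xi (i + n) * xi (j + n)) ^ 2 = 1 := by
    intro i j h n
    induction n with
    | zero => simpa using h
    | succ n ih =>
      rw [Nat.cast_succ, ← add_assoc, ← add_assoc, ← hshift, ← hshift]
      calc (a * xi (i + n) * a⁻¹ * (a * xi (j + n) * a⁻¹)) ^ 2
          = a * (xi (i + n) * xi (j + n)) ^ 2 * a⁻¹ := by rw [pow_two, pow_two]; group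
        _ = 1 := by rw [ih, mul_one, mul_inv_cancel]
  have hdil : ∀ i j, (xi i * xi j) ^ 2 = 1 → (xi (A.r * i) * xi (A.r * j)) ^ 2 = 1 := by
    intro i j h
    apply hsym
    have h2 : ((xi (A.r * j) * xi (A.r * i))⁻¹) ^ 2 = 1 := by
      rw [mul_inv_rev, ← hBxi, ← hBxi]
      calc (B * xi i * B⁻¹ * (B * xi j * B⁻¹)) ^ 2 = B * (xi i * xi j) ^ 2 * B⁻¹ := by
            rw [pow_two, pow_two]; group
        _ = 1 := by rw [h, mul_one, mul_inv_cancel]
    rwa [inv_pow, inv_eq_one] at h2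
  have h01 : (xi 0 * xi 1) ^ 2 = 1 := by
    have h := hxi 1
    rw [pow_one, Nat.cast_one] at h
    have h' := hxi 0
    rw [pow_zero, one_mul, inv_one, mul_one, Nat.cast_zero] at h'
    rw [← h, ← h']
    exact e4
  have hall : ∀ i j, i ≠ j → (xi i * xi j) ^ 2 = 1 := by
    intro i j hij
    obtain ⟨k, hk⟩ := A.hr (j - i) (sub_ne_zero.2 hij.symm)
    have h0k : (xi 0 * xi (A.r ^ k)) ^ 2 = 1 := by
      clear hk
      induction k with
      | zero => simpa using h01
      | succ k ih =>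
        have h := hdil _ _ ih
        rwa [mul_zero, ← pow_succ' A.r k] at h
    have := hsh _ _ h0k i.val
    rwa [ZMod.natCast_zmod_val, zero_add, hk, sub_add_cancel] at this
  let y : Ω → G := fun v => if h : ∃ i, A.ι i = v then xi h.choose else 1
  have hy : ∀ i, y (A.ι i) = xi i := fun i => by
    simp only [y, dif_pos (show ∃ j, A.ι j = A.ι i from ⟨i, rfl⟩)]
    exact congrArg xi (A.inj (Exists.choose_spec (⟨i, rfl⟩ : ∃ j, A.ι j = A.ι i)))
  obtain ⟨α, hα, hαy⟩ := exists_isHomOn (X := A.X) A.pa_mem A.pb_mem A.hab y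
    (fun v hv h1 h2 => by
      obtain ⟨i, rfl⟩ := A.mem_X hv h1 h2
      rw [hy]; exact hxi3 i)
    (fun v hv h1 h2 w hw g1 g2 hne => by
      obtain ⟨i, rfl⟩ := A.mem_X hv h1 h2
      obtain ⟨j, rfl⟩ := A.mem_X hw g1 g2
      rw [hy, hy]; exact hall i j fun e => hne (by rw [e]))
  have hαxi : ∀ i, α (cyc A.pa A.pb (A.ι i)) = xi i := fun i => by
    rw [hαy _ (A.ι_mem i) (A.ha i) (A.hb i), hy]
  have hV : ∀ w ∈ V, α (FreeGroup.lift (A.genImg z) w) = φ w := by
    intro w hw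
    induction hw using Subgroup.closure_induction with
    | mem v hv =>
      obtain ⟨i, rfl⟩ := hv
      simp only [map_mul, map_inv, map_pow]
      simp only [genImg, FreeGroup.lift_apply_of, Matrix.cons_val_zero, Matrix.cons_val_one,
        A.conj_x0, hαxi]
      exact (hxi i).symm
    | one => simp [hα.map_one]
    | mul v w hv hw ihv ihw =>
      rw [map_mul, map_mul, hα _ (A.lift_W_mem z (V_le_W hv)) _ (A.lift_W_mem z (V_le_W hw)),
        ihv, ihw]
    | inv v hv ihv => rw [map_inv, map_inv, hα.map_inv (A.lift_W_mem z (V_le_W hv)), ihv]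
  have hαx : α A.x0 = x := by
    rw [x0, hαxi]
    simp [xi]
  have hαB : α A.b0 = B := by rw [← A.lift_bWord z]; exact hV _ A.bWord_mem
  -- the translation is the image of the translation
  set δ := (α A.a0)⁻¹ * a with hδ
  have hδxi : ∀ i, Commute δ (xi i) := by
    intro i
    have h1 : α A.a0 * xi i * (α A.a0)⁻¹ = xi (i + 1) := by
      rw [← hαxi, ← hα.map_conj A.a0_mem
        (cyc_mem_altOn A.pa_mem A.pb_mem (A.ι_mem i) A.hab (A.ha i).symm), cyc_conj, A.a0_pa,
        A.a0_pb, A.a0_apply, hαxi]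
    rw [← hshift] at h1
    show δ * xi i = xi i * δ
    calc δ * xi i = (α A.a0)⁻¹ * (a * xi i * a⁻¹) * a := by rw [hδ]; group
      _ = (α A.a0)⁻¹ * (α A.a0 * xi i * (α A.a0)⁻¹) * a := by rw [h1]
      _ = _ := by rw [hδ]; group
  have hδimg : ∀ σ ∈ altOn A.X, Commute δ (α σ) := by
    intro σ hσ
    let R : Subgroup (Perm Ω) :=
      { carrier := {σ | σ ∈ altOn A.X ∧ Commute δ (α σ)}
        one_mem' := ⟨one_mem _, by rw [hα.map_one]; exact Commute.one_right _⟩
        mul_mem' := fun {s t} hs ht => ⟨mul_mem hs.1 ht.1, by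
          rw [hα _ hs.1 _ ht.1]; exact hs.2.mul_right ht.2⟩
        inv_mem' := fun {s} hs => ⟨inv_mem hs.1, by rw [hα.map_inv hs.1]; exact hs.2.inv_right⟩ }
    refine (altOn_le (R := R) A.pa_mem A.pb_mem A.hab (fun v hv h1 h2 => ?_) hσ).2
    obtain ⟨i, rfl⟩ := A.mem_X hv h1 h2
    exact ⟨cyc_mem_altOn A.pa_mem A.pb_mem (A.ι_mem i) A.hab (A.ha i).symm,
      by rw [hαxi]; exact hδxi i⟩
  have hαa : α A.a0 = a := by
    set a' := α A.a0 with ha'
    have hc1 : Commute δ a' := hδimg _ A.a0_mem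
    have hc2 : Commute δ B := hαB ▸ hδimg _ A.b0_mem
    have ha : a = a' * δ := by rw [hδ, mul_inv_cancel_left]
    have h1 : B * a' ^ A.s * B⁻¹ = a' ^ (A.s - 1) := by
      have h := congrArg α (A.lift_rels z _ (show A.bWord * FreeGroup.of 0 ^ A.s * A.bWord⁻¹ *
        (FreeGroup.of 0 ^ (A.s - 1))⁻¹ ∈ A.rels by simp [rels]))
      simp only [map_mul, map_inv, map_pow, A.lift_bWord, hα.map_one] at h
      simp only [genImg, FreeGroup.lift_apply_of, Matrix.cons_val_zero] at h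
      have m1 := pow_mem A.a0_mem A.s
      have m2 := pow_mem A.a0_mem (A.s - 1)
      rw [hα _ (mul_mem (mul_mem A.b0_mem m1) (inv_mem A.b0_mem)) _ (inv_mem m2),
        hα.map_conj A.b0_mem m1, hα.map_inv m2, hα.map_pow A.a0_mem, hα.map_pow A.a0_mem, hαB,
        mul_inv_eq_one, ← ha'] at h
      exact h
    rw [ha, hc1.symm.mul_pow, hc1.symm.mul_pow] at e2
    have h2 : B * (a' ^ A.s * δ ^ A.s) * B⁻¹ = a' ^ (A.s - 1) * δ ^ A.s := by
      rw [← h1]
      simp only [mul_assoc]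
      rw [(hc2.pow_left A.s).inv_right.eq]
    rw [h2] at e2
    have h3 := mul_left_cancel e2
    have h4 : δ ^ A.s = δ ^ (A.s - 1) * δ := by
      rw [← pow_succ, Nat.sub_add_cancel A.one_le_s]
    rw [h4] at h3
    have h5 : δ = 1 := mul_left_cancel (h3.trans (mul_one _).symm)
    rw [ha, h5, mul_one]
  refine ⟨α, hα, fun w hw => ?_⟩
  induction hw using Subgroup.closure_induction with
  | mem v hv =>
    rcases hv with rfl | rfl
    · simpa [genImg] using hαa
    · simpa [genImg] using hαx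
  | one => simp [hα.map_one]
  | mul v w hv hw ihv ihw =>
    rw [map_mul, map_mul, hα _ (A.lift_W_mem z hv) _ (A.lift_W_mem z hw), ihv, ihw]
  | inv v hv ihv => rw [map_inv, map_inv, hα.map_inv (A.lift_W_mem z hv), ihv]

end Affine

end Cfsg.Agent.Lib.ShortPresSym
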