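import Cfsg.Agent.Lib.ShortPresSym.AltOn

/-!
# Short presentations of symmetric and alternating groups, part 2

Gluing a copy of `altOn X` to its conjugate by an involution, and the lemma that the sets of points
reached by conjugating with one element exhaust a set.
-/

set_option autoImplicit false
set_option linter.unusedSectionVars false

namespace Cfsg.Agent.Lib.ShortPresSym

open Equiv

variable {Ω : Type*} [Fintype Ω] [DecidableEq Ω] {G : Type*} [Group G]
variable {X : Finset Ω} {α : Perm Ω → G} {c g : Perm Ω} {C : G} {a b e : Ω}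

/-- Powers of `g` move `a` through `cyc a b ·` inside the group generated by `g` and its conjugate. -/
theorem cyc_mem_of_orbit (hab : a ≠ b) (hae : a ≠ e) (hbe : b ≠ e) (hgb : g b = b) (hge : g e = e)
    {R : Subgroup (Perm Ω)} (hg : g ∈ R) (hx : cyc a b e * g * (cyc a b e)⁻¹ ∈ R) :
    ∀ k : ℕ, (g ^ k) a ≠ a → cyc a b ((g ^ k) a) ∈ R := by
  set x := cyc a b e with hxdef
  have xa : x a = b := cyc_apply_left hab hbe
  have xb : x b = e := cyc_apply_mid
  have xe : x e = a := cyc_apply_right hae hbe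
  have xne : ∀ v, v ≠ a → v ≠ b → v ≠ e → x v = v := fun v => cyc_apply_ne
  have xia : x⁻¹ a = e := by rw [Perm.inv_eq_iff_eq, xe]
  have xib : x⁻¹ b = a := by rw [Perm.inv_eq_iff_eq, xa]
  have xie : x⁻¹ e = b := by rw [Perm.inv_eq_iff_eq, xb]
  have xine : ∀ v, v ≠ a → v ≠ b → v ≠ e → x⁻¹ v = v := fun v h1 h2 h3 => by
    rw [Perm.inv_eq_iff_eq, xne v h1 h2 h3]
  set gb := x * g * x⁻¹ with hgbdef
  have gba : gb a = a := by simp only [hgbdef, Perm.mul_apply, xia, hge, xe]
  have gbe : gb e = e := by simp only [hgbdef, Perm.mul_apply, xie, hgb, xb]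
  intro k
  induction k with
  | zero => intro h; exact absurd (by simp) h
  | succ k ih =>
    intro hw
    rw [pow_succ', Perm.mul_apply] at hw ⊢
    have hga : g a ≠ a := by
      intro h
      exact hw (by rw [Perm.pow_apply_eq_self_of_apply_eq_self h, h])
    have l1b : g a ≠ b := fun h => hab (g.injective (h.trans hgb.symm))
    have l1e : g a ≠ e := fun h => hae (g.injective (h.trans hge.symm))
    set lL := g⁻¹ a with hlL
    have hgL : g lL = a := by rw [hlL, Perm.inv_def, Equiv.apply_symm_apply]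
    have lLa : lL ≠ a := fun h => hga (by rw [h] at hgL; exact hgL)
    have lLb : lL ≠ b := fun h => hab (by rw [← hgL, h, hgb])
    have lLe : lL ≠ e := fun h => hae (by rw [← hgL, h, hge])
    have gbb : gb b = g a := by
      simp only [hgbdef, Perm.mul_apply, xib, xne _ hga l1b l1e]
    have gbne : ∀ v, v ≠ a → v ≠ b → v ≠ e → g v ≠ a → gb v = g v := by
      intro v h1 h2 h3 h4
      have h5 : g v ≠ b := fun h => h2 (g.injective (h.trans hgb.symm))
      have h6 : g v ≠ e := fun h => h3 (g.injective (h.trans hge.symm))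
      simp only [hgbdef, Perm.mul_apply, xine _ h1 h2 h3, xne _ h4 h5 h6]
    by_cases hka : (g ^ k) a = a
    · rw [hka]
      -- the base point
      have ht : g⁻¹ * gb = cyc a lL b := by
        ext v
        rw [Perm.mul_apply, Perm.inv_eq_iff_eq]
        by_cases h1 : v = a
        · rw [h1, gba, cyc_apply_left lLa.symm lLb, hgL]
        by_cases h2 : v = b
        · rw [h2, gbb, cyc_apply_right hab lLb]
        by_cases h3 : v = lL
        · rw [h3, cyc_apply_mid, hgb]
          simp only [hgbdef, Perm.mul_apply, xine _ lLa lLb lLe, hgL, xa]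
        rw [cyc_apply_ne h1 h3 h2]
        by_cases h4 : v = e
        · rw [h4, gbe, hge]
        exact gbne v h1 h2 h4 fun h => h3 (g.injective (h.trans hgL.symm))
      have h1 : cyc (g a) b a ∈ R := by
        have h := mul_mem (mul_mem hg (inv_mem (mul_mem (inv_mem hg) hx))) (inv_mem hg)
        rw [ht, cyc_inv, cyc_conj, hgb, hgL] at h
        exact h
      have h2 := inv_mem h1
      rw [cyc_inv, cyc_rot hga l1b hab] at h2
      exact h2
    · have hv := ih hka
      set v := (g ^ k) a with hvdef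
      have hvb : v ≠ b := by
        intro h
        exact hab ((g ^ k).injective (h.trans (Perm.pow_apply_eq_self_of_apply_eq_self hgb k).symm))
      have hve : v ≠ e := by
        intro h
        exact hae ((g ^ k).injective (h.trans (Perm.pow_apply_eq_self_of_apply_eq_self hge k).symm))
      have hwb : g v ≠ b := fun h => hvb (g.injective (h.trans hgb.symm))
      have hwl : g v ≠ g a := fun h => hka (g.injective h)
      have h1 : cyc (g a) b (g v) ∈ R := by
        have := mul_mem (mul_mem hg hv) (inv_mem hg)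
        rwa [cyc_conj, hgb] at this
      have h2 : cyc a (g a) (g v) ∈ R := by
        have := mul_mem (mul_mem hx hv) (inv_mem hx)
        rwa [cyc_conj, gba, gbb, gbne v hka hvb hve hw] at this
      have h3 := inv_mem (mul_mem (mul_mem h2 h1) (inv_mem h2))
      rw [cyc_conj, cyc_apply_mid, cyc_apply_ne hab.symm (fun h => l1b h.symm) (fun h => hwb h.symm),
        cyc_apply_right (fun h => hw h.symm) hwl.symm, cyc_inv,
        cyc_rot hw hwb hab] at h3
      exact h3

/-- The commutations a glueing needs, from a single one. -/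
theorem commute_of_one (hα : IsHomOn X α) (hC : C * C = 1) {x : Perm Ω} (hx : x ∈ altOn X)
    (hx3 : x ^ 3 = 1) (hCx : Commute C (α x)) (hg : g ∈ altOn X)
    (h : Commute (α g) (C * α (x * g * x⁻¹) * C)) :
    Commute (α (x * (x * g * x⁻¹) * x⁻¹)) (C * α g * C) ∧
      Commute (α (x * (x * g * x⁻¹) * x⁻¹)) (C * α (x * g * x⁻¹) * C) := by
  have hgb := mul_mem (mul_mem hx hg) (inv_mem hx)
  have hge := mul_mem (mul_mem hx hgb) (inv_mem hx)
  set Xg := α x with hXg
  set A0 := α g
  set A1 := α (x * g * x⁻¹)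
  set A2 := α (x * (x * g * x⁻¹) * x⁻¹)
  have e1 : A1 = Xg * A0 * Xg⁻¹ := hα.map_conj hx hg
  have e2 : A2 = Xg * A1 * Xg⁻¹ := hα.map_conj hx hgb
  have e3 : A0 = Xg * A2 * Xg⁻¹ := by
    have hh : g = x * (x * (x * g * x⁻¹) * x⁻¹) * x⁻¹ := by
      calc g = x ^ 3 * g * (x ^ 3)⁻¹ := by rw [hx3]; simp
        _ = _ := by rw [pow_succ, pow_two]; group
    rw [hXg, ← hα.map_conj hx hge, ← hh]
  -- conjugation by `Xg` commutes with conjugation by `C`
  have hrot : ∀ p q : G, Commute p (C * q * C) →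
      Commute (Xg * p * Xg⁻¹) (C * (Xg * q * Xg⁻¹) * C) := by
    intro p q hpq
    have h1 : C * (Xg * q * Xg⁻¹) * C = Xg * (C * q * C) * Xg⁻¹ := by
      rw [← mul_assoc, ← mul_assoc, hCx.eq]
      have : Xg⁻¹ * C = C * Xg⁻¹ := (hCx.inv_right).eq.symm
      simp only [mul_assoc, this]
    rw [h1]
    show _ * _ = _ * _
    have := hpq.eq
    calc Xg * p * Xg⁻¹ * (Xg * (C * q * C) * Xg⁻¹) = Xg * (p * (C * q * C)) * Xg⁻¹ := by group
      _ = Xg * (C * q * C * p) * Xg⁻¹ := by rw [this]
      _ = _ := by group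
  have hswap : ∀ p q : G, Commute p (C * q * C) → Commute q (C * p * C) := by
    intro p q hpq
    have := hpq.eq
    show _ * _ = _ * _
    calc q * (C * p * C) = C * ((C * q * C) * p) * C := by
          simp only [mul_assoc]; rw [← mul_assoc C C, hC, one_mul]
      _ = C * (p * (C * q * C)) * C := by rw [this]
      _ = C * p * C * q * (C * C) := by simp only [mul_assoc]
      _ = C * p * C * q := by rw [hC, mul_one]
  have p12 := hrot _ _ h
  rw [← e1, ← e2] at p12
  have p20 := hrot _ _ p12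
  rw [← e2, ← e3] at p20
  exact ⟨p20, hswap _ _ p12⟩

/-- Gluing: `altOn X` and its conjugate generate a quotient of `altOn (X ∪ c X)`. -/
theorem glue (hα : IsHomOn X α) (hc : ∀ i, c (c i) = i) (hC : C * C = 1)
    (ha : a ∈ X) (hb : b ∈ X) (he : e ∈ X) (hab : a ≠ b) (hae : a ≠ e) (hbe : b ≠ e)
    (hca : c a = a) (hcb : c b = b) (hce : c e = e)
    (hK : ∀ σ ∈ altOn (X ∩ X.image c), C * α σ * C = α (c * σ * c))
    (hx : Commute C (α (cyc a b e)))
    (hg : g ∈ altOn X) (hgb : g b = b) (hge : g e = e)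
    (horb : ∀ i ∈ X, c i ∉ X → ∃ k : ℕ, (g ^ k) a = i)
    (h : Commute (α g) (C * α (cyc a b e * g * (cyc a b e)⁻¹) * C)) :
    ∃ ψ : Perm Ω → G, IsHomOn (X ∪ X.image c) ψ ∧ (∀ σ ∈ altOn X, ψ σ = α σ) ∧
      ∀ σ ∈ altOn (X ∪ X.image c), C * ψ σ * C = ψ (c * σ * c) := by
  classical
  set x := cyc a b e with hxdef
  have hxmem : x ∈ altOn X := cyc_mem_altOn ha hb he hab hae
  obtain ⟨hc1, hc2⟩ := commute_of_one hα hC hxmem (cyc_pow_three hab hae hbe) hx hg h
  have hcinv : c * c = 1 := Equiv.ext fun i => hc i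
  have hcimg : ∀ i, i ∈ X.image c ↔ c i ∈ X := fun i => by
    rw [Finset.mem_image]
    exact ⟨fun ⟨j, hj, hji⟩ => by rw [← hji, hc]; exact hj, fun hi => ⟨c i, hi, hc i⟩⟩
  have hcconj : ∀ p q r, c * cyc p q r * c = cyc (c p) (c q) (c r) := by
    intro p q r
    rw [← cyc_conj c, inv_eq_of_mul_eq_one_right hcinv]
  set Z := X ∪ X.image c with hZ
  let y : Ω → G := fun i => if i ∈ X then α (cyc a b i) else C * α (cyc a b (c i)) * C
  have hyX : ∀ i ∈ X, y i = α (cyc a b i) := fun i hi => if_pos hi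
  have hyY : ∀ i ∈ Z, c i ∈ X → i ≠ a → i ≠ b → y i = C * α (cyc a b (c i)) * C := by
    intro i _ hci hia hib
    by_cases hi : i ∈ X
    · have hK' : cyc a b i ∈ altOn (X ∩ X.image c) := by
        refine cyc_mem_altOn ?_ ?_ ?_ hab hia.symm <;> rw [Finset.mem_inter, hcimg]
        · exact ⟨ha, by rw [hca]; exact ha⟩
        · exact ⟨hb, by rw [hcb]; exact hb⟩
        · exact ⟨hi, hci⟩
      have h1 := hK _ hK'
      rw [hcconj, hca, hcb] at h1
      rw [hyX i hi, ← h1]
      simp only [mul_assoc, hC, mul_one]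
      rw [← mul_assoc C C, hC, one_mul]
    · exact if_neg hi
  have hCC : ∀ p q : G, (C * p * C) * (C * q * C) = C * (p * q) * C := by
    intro p q
    simp only [mul_assoc]; rw [← mul_assoc C C, hC, one_mul]
  have hmemc : ∀ i ∈ Z, i ∉ X → c i ∈ X := fun i hi hiX =>
    (hcimg i).1 ((Finset.mem_union.1 hi).resolve_left hiX)
  have hne_ab : ∀ i, i ≠ a → i ≠ b → c i ≠ a ∧ c i ≠ b := fun i hia hib =>
    ⟨fun e' => hia (by rw [← hc i, e', hca]), fun e' => hib (by rw [← hc i, e', hcb])⟩
  have hpair : ∀ i ∈ X, i ≠ a → i ≠ b → ∀ j ∈ X, j ≠ a → j ≠ b → i ≠ j →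
      (α (cyc a b i) * α (cyc a b j)) ^ 2 = 1 := by
    intro i hi hia hib j hj hja hjb hij
    have m1 := cyc_mem_altOn ha hb hi hab hia.symm
    have m2 := cyc_mem_altOn ha hb hj hab hja.symm
    rw [← hα _ m1 _ m2, ← hα.map_pow (mul_mem m1 m2),
      cyc_mul_cyc_sq hab hia.symm hib.symm hja.symm hjb.symm hij, hα.map_one]
  have hpairC : ∀ i ∈ X, i ≠ a → i ≠ b → ∀ j ∈ X, j ≠ a → j ≠ b → i ≠ j →
      (C * α (cyc a b i) * C * (C * α (cyc a b j) * C)) ^ 2 = 1 := by
    intro i hi hia hib j hj hja hjb hij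
    rw [pow_two, hCC, hCC, ← pow_two, hpair i hi hia hib j hj hja hjb hij, mul_one, hC]
  have hxe : y e = α (cyc a b e) ∧ y e = C * α (cyc a b e) * C := by
    refine ⟨hyX e he, ?_⟩
    have := hyY e (Finset.mem_union_left _ he) (by rw [hce]; exact he) hae.symm hbe.symm
    rwa [hce] at this
  -- the commutation of `h` with the conjugate three-cycles
  have hcross : ∀ i ∈ X, c i ∉ X → ∀ j ∈ Z, j ∉ X → (y i * y j) ^ 2 = 1 := by
    intro i hi hciX j hj hjX
    have hjX' := hmemc j hj hjX
    have hia : i ≠ a := fun e' => hciX (by rw [e', hca]; exact ha)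
    have hib : i ≠ b := fun e' => hciX (by rw [e', hcb]; exact hb)
    have hie : i ≠ e := fun e' => hciX (by rw [e', hce]; exact he)
    have hja : j ≠ a := fun e' => hjX (e' ▸ ha)
    have hjb : j ≠ b := fun e' => hjX (e' ▸ hb)
    have hje : j ≠ e := fun e' => hjX (e' ▸ he)
    have hcjX : c (c j) ∉ X := by rw [hc]; exact hjX
    obtain ⟨k, hk⟩ := horb i hi hciX
    obtain ⟨k', hk'⟩ := horb (c j) hjX' hcjX
    set ge := x * (x * g * x⁻¹) * x⁻¹ with hgedef
    have hgb' := mul_mem (mul_mem hxmem hg) (inv_mem hxmem)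
    have hge' : ge ∈ altOn X := mul_mem (mul_mem hxmem hgb') (inv_mem hxmem)
    -- everything in `⟨g, x g x⁻¹⟩` commutes after conjugation with `α ge`
    let R : Subgroup (Perm Ω) :=
      { carrier := {σ | σ ∈ altOn X ∧ Commute (α ge) (C * α σ * C)}
        one_mem' := ⟨one_mem _, by rw [hα.map_one, mul_one, hC]; exact Commute.one_right _⟩
        mul_mem' := fun {σ τ} hσ hτ => ⟨mul_mem hσ.1 hτ.1, by
          rw [hα _ hσ.1 _ hτ.1, ← hCC]; exact hσ.2.mul_right hτ.2⟩
        inv_mem' := fun {σ} hσ => ⟨inv_mem hσ.1, by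
          rw [hα.map_inv hσ.1]
          have := hσ.2.inv_right
          have hCi : C⁻¹ = C := inv_eq_of_mul_eq_one_right hC
          rwa [mul_inv_rev, mul_inv_rev, hCi, ← mul_assoc] at this⟩ }
    have hR := cyc_mem_of_orbit (R := R) hab hae hbe hgb hge ⟨hg, hc1⟩ ⟨hgb', hc2⟩ k'
      (by rw [hk']; exact (hne_ab j hja hjb).1)
    rw [hk'] at hR
    have hcomm : Commute (α (ge ^ k)) (y j) := by
      rw [hα.map_pow hge', hyY j hj hjX' hja hjb]
      exact hR.2.pow_left k
    have hgek : ge ^ k = x * (x * g ^ k * x⁻¹) * x⁻¹ := by rw [hgedef, conj_pow, conj_pow]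
    have xia : x⁻¹ a = e := by rw [Perm.inv_eq_iff_eq, cyc_apply_right hae hbe]
    have xib : x⁻¹ b = a := by rw [Perm.inv_eq_iff_eq, cyc_apply_left hab hbe]
    have xie : x⁻¹ e = b := by rw [Perm.inv_eq_iff_eq, cyc_apply_mid]
    have hkb : (g ^ k) b = b := Perm.pow_apply_eq_self_of_apply_eq_self hgb k
    have hke : (g ^ k) e = e := Perm.pow_apply_eq_self_of_apply_eq_self hge k
    have xa : x a = b := cyc_apply_left hab hbe
    have xb : x b = e := cyc_apply_mid
    have xe : x e = a := cyc_apply_right hae hbe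
    have xi : x i = i := cyc_apply_ne hia hib hie
    have ga : (ge ^ k) a = a := by
      simp only [hgek, Perm.mul_apply, xia, xie, hkb, xb, xe]
    have gb : (ge ^ k) b = b := by
      simp only [hgek, Perm.mul_apply, xib, xia, hke, xe, xa]
    have gei : (ge ^ k) e = i := by
      simp only [hgek, Perm.mul_apply, xie, xib, hk, xi]
    have hxi : y i = α (ge ^ k) * y e * (α (ge ^ k))⁻¹ := by
      rw [hyX i hi, hxe.1, ← hα.map_conj (pow_mem hge' k) hxmem, cyc_conj, ga, gb, gei]
    have hej : (y e * y j) ^ 2 = 1 := by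
      rw [hxe.2, hyY j hj hjX' hja hjb]
      exact hpairC e he hae.symm hbe.symm _ hjX' (hne_ab j hja hjb).1 (hne_ab j hja hjb).2
        (fun e' => hje (by rw [← hc j, ← e', hce]))
    have : y i * y j = α (ge ^ k) * (y e * y j) * (α (ge ^ k))⁻¹ := by
      rw [hxi]
      calc α (ge ^ k) * y e * (α (ge ^ k))⁻¹ * y j
          = α (ge ^ k) * y e * ((α (ge ^ k))⁻¹ * y j) := by group
        _ = α (ge ^ k) * y e * (y j * (α (ge ^ k))⁻¹) := by rw [hcomm.inv_left.eq]
        _ = _ := by group
    rw [this, conj_pow, hej, mul_one, mul_inv_cancel]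
  obtain ⟨ψ, hψ, hψy⟩ := exists_isHomOn (X := Z) (Finset.mem_union_left _ ha)
    (Finset.mem_union_left _ hb) hab y (by
    intro i hi hia hib
    by_cases hiX : i ∈ X
    · rw [hyX i hiX, ← hα.map_pow (cyc_mem_altOn ha hb hiX hab hia.symm),
        cyc_pow_three hab hia.symm hib.symm, hα.map_one]
    · have hci := hmemc i hi hiX
      obtain ⟨n1, n2⟩ := hne_ab i hia hib
      rw [hyY i hi hci hia hib, pow_succ, pow_two, hCC, hCC, ← pow_two, ← pow_succ,
        ← hα.map_pow (cyc_mem_altOn ha hb hci hab n1.symm), cyc_pow_three hab n1.symm n2.symm,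
        hα.map_one, mul_one, hC])
    (by
    intro i hi hia hib j hj hja hjb hij
    have hconjsq : ∀ p q : G, (p * q) ^ 2 = 1 → (q * p) ^ 2 = 1 := by
      intro p q hpq
      calc (q * p) ^ 2 = p⁻¹ * (p * q) ^ 2 * p := by rw [pow_two, pow_two]; group
        _ = 1 := by rw [hpq]; group
    have hcij : c i ≠ c j := fun e' => hij (c.injective e')
    by_cases hiX : i ∈ X <;> by_cases hjX : j ∈ X
    · rw [hyX i hiX, hyX j hjX]; exact hpair i hiX hia hib j hjX hja hjb hij
    · by_cases hci : c i ∈ X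
      · rw [hyY i hi hci hia hib, hyY j hj (hmemc j hj hjX) hja hjb]
        exact hpairC _ hci (hne_ab i hia hib).1 (hne_ab i hia hib).2 _ (hmemc j hj hjX)
          (hne_ab j hja hjb).1 (hne_ab j hja hjb).2 hcij
      · exact hcross i hiX hci j hj hjX
    · by_cases hcj : c j ∈ X
      · rw [hyY i hi (hmemc i hi hiX) hia hib, hyY j hj hcj hja hjb]
        exact hpairC _ (hmemc i hi hiX) (hne_ab i hia hib).1 (hne_ab i hia hib).2 _ hcj
          (hne_ab j hja hjb).1 (hne_ab j hja hjb).2 hcij
      · exact hconjsq _ _ (hcross j hjX hcj i hi hiX)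
    · rw [hyY i hi (hmemc i hi hiX) hia hib, hyY j hj (hmemc j hj hjX) hja hjb]
      exact hpairC _ (hmemc i hi hiX) (hne_ab i hia hib).1 (hne_ab i hia hib).2 _ (hmemc j hj hjX)
        (hne_ab j hja hjb).1 (hne_ab j hja hjb).2 hcij)
  have hψα : ∀ σ ∈ altOn X, ψ σ = α σ :=
    (hψ.mono Finset.subset_union_left).ext hα ha hb hab fun i hi hia hib => by
      rw [hψy i (Finset.mem_union_left _ hi) hia hib, hyX i hi]
  refine ⟨ψ, hψ, hψα, ?_⟩
  have hcZ : ∀ i ∈ Z, c i ∈ Z := fun i hi => by
    by_cases hiX : i ∈ X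
    · exact Finset.mem_union_right _ (Finset.mem_image_of_mem _ hiX)
    · exact Finset.mem_union_left _ (hmemc i hi hiX)
  have hcc : ∀ σ ∈ altOn Z, c * σ * c ∈ altOn Z := by
    intro σ hσ
    have := conj_mem_altOn hσ c
    rw [inv_eq_of_mul_eq_one_right hcinv] at this
    refine altOn_mono ?_ this
    intro i hi
    obtain ⟨j, hj, rfl⟩ := Finset.mem_image.1 hi
    exact hcZ j hj
  have h1 : IsHomOn Z (fun σ => C * ψ σ * C) := fun σ hσ τ hτ => by
    show C * ψ (σ * τ) * C = _
    rw [hψ σ hσ τ hτ, hCC]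
  have h2 : IsHomOn Z (fun σ => ψ (c * σ * c)) := fun σ hσ τ hτ => by
    show ψ (c * (σ * τ) * c) = _
    rw [← hψ _ (hcc σ hσ) _ (hcc τ hτ)]
    congr 1
    simp only [mul_assoc]; rw [← mul_assoc c c, hcinv, one_mul]
  refine h1.ext h2 (Finset.mem_union_left _ ha) (Finset.mem_union_left _ hb) hab
    fun i hi hia hib => ?_
  show C * ψ (cyc a b i) * C = ψ (c * cyc a b i * c)
  obtain ⟨n1, n2⟩ := hne_ab i hia hib
  rw [hcconj, hca, hcb, hψy i hi hia hib, hψy (c i) (hcZ i hi) n1 n2]
  by_cases hiX : i ∈ X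
  · rw [hyX i hiX, hyY (c i) (hcZ i hi) (by rw [hc]; exact hiX) n1 n2, hc]
  · rw [hyY i hi (hmemc i hi hiX) hia hib, hyX _ (hmemc i hi hiX)]
    simp only [mul_assoc, hC, mul_one]
    rw [← mul_assoc C C, hC, one_mul]

/-- If the three-cycle and the conjugates by `q` of what is reached so far are in `H`, all of
`altOn K` is. -/
theorem grow {K : Finset Ω} {q : Perm Ω} {H : Subgroup (Perm Ω)} (l : List Ω) (hnd : l.Nodup)
    (hlK : l.toFinset = K) (hlen : 3 ≤ l.length)
    (hq0 : q l[0] = l[0] ∨ q l[0] = l[1])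
    (hq : ∀ (i : ℕ) (h : i + 1 < l.length), 1 ≤ i → q l[i] = l[i + 1])
    (h0 : cyc l[0] l[1] l[2] ∈ H)
    (hstep : ∀ S, ({l[0], l[1], l[2]} : Finset Ω) ⊆ S → S ⊆ K → (S.image q ⊆ K) →
      altOn S ≤ H → altOn (S.image q) ≤ H) :
    altOn K ≤ H := by
  have hd : ∀ {i j : ℕ} (hi : i < l.length) (hj : j < l.length), i ≠ j → l[i] ≠ l[j] :=
    fun hi hj hij e => hij (hnd.getElem_inj_iff.1 e)
  have hsubK : ∀ m, (l.take m).toFinset ⊆ K := fun m => by
    rw [← hlK]; intro v hv; rw [List.mem_toFinset] at hv ⊢; exact List.mem_of_mem_take hv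
  have hmem : ∀ (i m : ℕ) (h : i < l.length), i < m → l[i] ∈ (l.take m).toFinset := fun i m h him =>
    List.mem_toFinset.2 (List.mem_take_iff_getElem.2 ⟨i, lt_min him h, rfl⟩)
  have hkey : ∀ m, 3 ≤ m → m ≤ l.length → altOn (l.take m).toFinset ≤ H := by
    intro m hm3
    induction m, hm3 using Nat.le_induction with
    | base =>
      intro _
      refine altOn_le (a := l[0]) (b := l[1]) (hmem 0 3 (by omega) (by omega))
        (hmem 1 3 (by omega) (by omega)) (hd _ _ (by omega)) fun i hi h1 h2 => ?_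
      obtain ⟨j, hj, rfl⟩ := List.mem_take_iff_getElem.1 (List.mem_toFinset.1 hi)
      rcases j with _ | _ | _ | j
      · exact absurd rfl h1
      · exact absurd rfl h2
      · exact h0
      · omega
    | succ m hm3 ih =>
      intro hm
      have hH := ih (by omega)
      set S := (l.take m).toFinset with hS
      have himg : S.image q ⊆ K := by
        intro v hv
        obtain ⟨w, hw, rfl⟩ := Finset.mem_image.1 hv
        obtain ⟨j, hj, rfl⟩ := List.mem_take_iff_getElem.1 (List.mem_toFinset.1 hw)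
        rw [← hlK, List.mem_toFinset]
        rcases j with _ | j
        · rcases hq0 with h | h <;> rw [h] <;> exact List.getElem_mem _
        · rw [hq (j + 1) (by omega) (by omega)]; exact List.getElem_mem _
      have hsub3 : ({l[0], l[1], l[2]} : Finset Ω) ⊆ S := by
        intro v hv
        simp only [Finset.mem_insert, Finset.mem_singleton] at hv
        rcases hv with rfl | rfl | rfl <;> exact hmem _ _ (by omega) (by omega)
      have hH2 := hstep S hsub3 (hsubK m) himg hH
      refine le_trans (altOn_mono ?_) (altOn_union_le (a := q l[1]) (b := q l[0])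
        (S := S) (T := S.image q) ?_ ?_ ?_ ?_ (fun e' => hd (by omega) (by omega) (by omega)
          (q.injective e')) hH hH2)
      · intro v hv
        obtain ⟨j, hj, rfl⟩ := List.mem_take_iff_getElem.1 (List.mem_toFinset.1 hv)
        rcases Nat.lt_or_ge j m with hjm | hjm
        · exact Finset.mem_union_left _ (hmem j m (by omega) hjm)
        · refine Finset.mem_union_right _ (Finset.mem_image.2 ⟨l[j - 1], hmem _ _ (by omega)
            (by omega), ?_⟩)
          rw [hq (j - 1) (by omega) (by omega)]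
          congr 1
          omega
      · rw [hq 1 (by omega) le_rfl]; exact hmem _ _ _ (by omega)
      · exact Finset.mem_image_of_mem _ (hmem _ _ _ (by omega))
      · rcases hq0 with h | h <;> rw [h] <;> exact hmem _ _ _ (by omega)
      · exact Finset.mem_image_of_mem _ (hmem _ _ _ (by omega))
  have := hkey l.length hlen le_rfl
  rwa [List.take_length, hlK] at this

end Cfsg.Agent.Lib.ShortPresSym
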