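import Cfsg.Agent.Lib.ShortPresSym.Base
import Cfsg.Agent.Lib.ShortPresSym.Glue

/-!
# Short presentations of symmetric and alternating groups, part 4

The seven-relator presentations on three generators `a, x, z`: four relators for the alternating
group on `X`, `z ^ 2 = x ^ 2` making `c = z ^ 3` an involution centralising `x`, one commutator, and
one last relator identifying the overlap.
-/

set_option autoImplicit false
set_option linter.unusedSectionVars false
set_option linter.style.haveILetI false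

namespace Cfsg.Agent.Lib.ShortPresSym

open Equiv

/-- A presentation on three generators with at most seven relators, the first and last generators
generating. -/
def HasPres (H : Type*) [Group H] : Prop :=
  ∃ rels : Finset (FreeGroup (Fin 3)), rels.card ≤ 7 ∧
    ∃ e : PresentedGroup (↑rels : Set (FreeGroup (Fin 3))) ≃* H,
      Subgroup.closure {e (PresentedGroup.of 0), e (PresentedGroup.of 2)} = ⊤

theorem hasPres_of_card {H : Type*} [Group H] [Finite H] (L : List (FreeGroup (Fin 3)))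
    (hlen : L.length ≤ 7) (f : Fin 3 → H) (hf : ∀ w ∈ L, FreeGroup.lift f w = 1)
    (hgen : Subgroup.closure {f 0, f 2} = ⊤)
    (hG : Finite (PresentedGroup (↑L.toFinset : Set (FreeGroup (Fin 3)))) ∧
      Nat.card (PresentedGroup (↑L.toFinset : Set (FreeGroup (Fin 3)))) ≤ Nat.card H) :
    HasPres H := by
  have hf' : ∀ r ∈ (↑L.toFinset : Set (FreeGroup (Fin 3))), FreeGroup.lift f r = 1 := fun r hr =>
    hf r (List.mem_toFinset.1 hr)
  let F := PresentedGroup.toGroup hf'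
  have hsurj : Function.Surjective F := by
    rw [← MonoidHom.range_eq_top, eq_top_iff, ← hgen, Subgroup.closure_le]
    rintro _ (rfl | rfl)
    · exact ⟨PresentedGroup.of 0, by simp [F]⟩
    · exact ⟨PresentedGroup.of 2, by simp [F]⟩
  haveI := hG.1
  refine ⟨L.toFinset, L.toFinset_card_le.trans hlen,
    MulEquiv.ofBijective F (hsurj.bijective_of_nat_card_le hG.2), ?_⟩
  simpa [F] using hgen

variable {Ω : Type*} [Fintype Ω] [DecidableEq Ω] {p : ℕ} [Fact p.Prime]

/-- The common part of both presentations. -/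
structure Config (Ω : Type*) [Fintype Ω] [DecidableEq Ω] (p : ℕ) [Fact p.Prime] where
  /-- The base alternating group. -/
  A : Affine Ω p
  /-- The involution. -/
  c : Perm Ω
  hc : ∀ i, c (c i) = i
  hca : c A.pa = A.pa
  hcb : c A.pb = A.pb
  hce : c (A.ι 0) = A.ι 0
  /-- The long cycle. -/
  g : Perm Ω
  hg : g ∈ altOn A.X
  hgb : g A.pb = A.pb
  hge : g (A.ι 0) = A.ι 0
  hgc : Commute g (c * (A.x0 * g * A.x0⁻¹) * c)

namespace Config

variable (d : Config Ω p)

/-- The images of the generators. -/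
def img : Fin 3 → Perm Ω := d.A.genImg (d.c * d.A.x0)

/-- Evaluation of words in the permutations. -/
noncomputable abbrev ev : FreeGroup (Fin 3) →* Perm Ω := FreeGroup.lift d.img

/-- The word for the involution. -/
def cW : FreeGroup (Fin 3) := FreeGroup.of 2 ^ 3

/-- A fixed word for an element of the base group. -/
noncomputable def wA (σ : Perm Ω) : FreeGroup (Fin 3) :=
  letI := Classical.propDecidable (σ ∈ altOn d.A.X)
  if h : σ ∈ altOn d.A.X then (d.A.exists_word_V (d.c * d.A.x0) h).choose else 1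

theorem wA_mem {σ : Perm Ω} : d.wA σ ∈ Affine.W := by
  unfold wA
  split
  · next h => exact Affine.V_le_W (d.A.exists_word_V _ h).choose_spec.1
  · exact one_mem _

theorem ev_wA {σ : Perm Ω} (h : σ ∈ altOn d.A.X) : d.ev (d.wA σ) = σ := by
  unfold wA
  rw [dif_pos h]
  exact (d.A.exists_word_V _ h).choose_spec.2

/-- The six common relators. -/
noncomputable def rels : List (FreeGroup (Fin 3)) :=
  d.A.rels ++ [FreeGroup.of 2 ^ 2 * (FreeGroup.of 1 ^ 2)⁻¹,
    d.wA d.g * (cW * (FreeGroup.of 1 * d.wA d.g * (FreeGroup.of 1)⁻¹) * cW) *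
      (d.wA d.g)⁻¹ * (cW * (FreeGroup.of 1 * d.wA d.g * (FreeGroup.of 1)⁻¹) * cW)⁻¹]

theorem rels_length : d.rels.length = 6 := by simp [rels, Affine.rels]

theorem hcinv : d.c * d.c = 1 := Equiv.ext fun i => d.hc i

theorem c_conj (σ : Perm Ω) : d.c * σ * d.c = d.c * σ * d.c⁻¹ := by
  rw [inv_eq_of_mul_eq_one_right d.hcinv]

theorem c_cyc (a b i : Ω) : d.c * cyc a b i * d.c = cyc (d.c a) (d.c b) (d.c i) := by
  rw [c_conj, cyc_conj]

theorem c_x0 : Commute d.c d.A.x0 := by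
  have h := cyc_conj d.c d.A.pa d.A.pb (d.A.ι 0)
  rw [d.hca, d.hcb, d.hce, mul_inv_eq_iff_eq_mul] at h
  exact h

theorem ev_of0 : d.ev (FreeGroup.of 0) = d.A.a0 := by simp [ev, img, Affine.genImg]

theorem ev_of1 : d.ev (FreeGroup.of 1) = d.A.x0 := by simp [ev, img, Affine.genImg]

theorem ev_of2 : d.ev (FreeGroup.of 2) = d.c * d.A.x0 := by simp [ev, img, Affine.genImg]

theorem x0_pow_three : d.A.x0 ^ 3 = 1 := cyc_pow_three d.A.hab (d.A.ha 0).symm (d.A.hb 0).symm

theorem ev_cW : d.ev cW = d.c := by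
  rw [cW, map_pow, ev_of2, d.c_x0.mul_pow, d.x0_pow_three, mul_one, pow_succ, pow_two, d.hcinv,
    one_mul]

theorem ev_rels : ∀ w ∈ d.rels, d.ev w = 1 := by
  intro w hw
  rw [rels, List.mem_append] at hw
  rcases hw with hw | hw
  · exact d.A.lift_rels _ w hw
  simp only [List.mem_cons, List.not_mem_nil, or_false] at hw
  rcases hw with rfl | rfl
  · rw [map_mul, map_inv, map_pow, map_pow, ev_of2, ev_of1, d.c_x0.mul_pow, pow_two d.c, d.hcinv,
      one_mul, mul_inv_cancel]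
  · simp only [map_mul, map_inv, d.ev_wA d.hg, ev_cW, ev_of1]
    rw [d.hgc.eq, mul_inv_cancel_right, mul_inv_cancel]

/-- What the six relators give in any group. -/
structure Model (G : Type*) [Group G] where
  /-- The evaluation map. -/
  φ : FreeGroup (Fin 3) →* G
  /-- The base group. -/
  α : Perm Ω → G
  hα : IsHomOn d.A.X α
  hW : ∀ w ∈ Affine.W, α (d.ev w) = φ w
  hC : φ cW * φ cW = 1
  hx : Commute (φ cW) (α d.A.x0)
  hg : Commute (α d.g) (φ cW * α (d.A.x0 * d.g * d.A.x0⁻¹) * φ cW)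
  gen : ∀ (H : Subgroup G), (∀ σ ∈ altOn d.A.X, α σ ∈ H) → φ cW ∈ H → ∀ w, φ w ∈ H

theorem exists_model {G : Type*} [Group G] (φ : FreeGroup (Fin 3) →* G)
    (hφ : ∀ w ∈ d.rels, φ w = 1) : ∃ M : d.Model G, M.φ = φ := by
  obtain ⟨α, hα, hW⟩ := d.A.exists_hom φ (fun w hw => hφ w (List.mem_append_left _ hw))
    (d.c * d.A.x0)
  have hW' : ∀ w ∈ Affine.W, α (d.ev w) = φ w := hW
  have h0 : FreeGroup.of (0 : Fin 3) ∈ Affine.W := Subgroup.subset_closure (Or.inl rfl)
  have h1 : FreeGroup.of (1 : Fin 3) ∈ Affine.W := Subgroup.subset_closure (Or.inr rfl)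
  have hαx : α d.A.x0 = φ (FreeGroup.of 1) := by rw [← d.ev_of1]; exact hW' _ h1
  set Z := φ (FreeGroup.of 2)
  set Xg := φ (FreeGroup.of 1)
  have hX3 : Xg ^ 3 = 1 := by
    rw [← hαx, ← hα.map_pow d.A.x0_mem, d.x0_pow_three, hα.map_one]
  have hz : Z ^ 2 = Xg ^ 2 := by
    have := hφ (FreeGroup.of 2 ^ 2 * (FreeGroup.of 1 ^ 2)⁻¹) (by simp [rels])
    rwa [map_mul, map_inv, map_pow, map_pow, mul_inv_eq_one] at this
  have hC : φ cW * φ cW = 1 := by
    rw [cW, map_pow, ← pow_two, ← pow_mul, mul_comm, pow_mul, hz, ← pow_mul, mul_comm, pow_mul,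
      hX3, one_pow]
  have hX : Xg = (Z ^ 2) ^ 2 := by
    rw [hz, ← pow_mul, pow_succ, hX3, one_mul]
  have hx : Commute (φ cW) (α d.A.x0) := by
    rw [hαx, cW, map_pow, hX, ← pow_mul]
    exact Commute.pow_pow (Commute.refl Z) _ _
  have hgr := hφ (d.wA d.g * (cW * (FreeGroup.of 1 * d.wA d.g * (FreeGroup.of 1)⁻¹) * cW) *
      (d.wA d.g)⁻¹ * (cW * (FreeGroup.of 1 * d.wA d.g * (FreeGroup.of 1)⁻¹) * cW)⁻¹)
    (by simp [rels])
  have hwg : φ (d.wA d.g) = α d.g := by rw [← hW' _ d.wA_mem, d.ev_wA d.hg]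
  refine ⟨⟨φ, α, hα, hW', hC, hx, ?_, ?_⟩, rfl⟩
  · simp only [map_mul, map_inv, hwg, mul_inv_eq_one] at hgr
    rw [mul_inv_eq_iff_eq_mul] at hgr
    show _ * _ = _ * _
    rw [hα.map_conj d.A.x0_mem d.hg, hαx]
    exact hgr
  · intro H hH hcH w
    have hZ : Z ∈ H := by
      have : Z = φ cW * α d.A.x0 := by
        have h4 : Z ^ 4 = Xg := by rw [hX, ← pow_mul]
        have h6 : Z ^ 6 = 1 := by
          rw [show (6 : ℕ) = 2 * 3 from rfl, pow_mul, hz, ← pow_mul, mul_comm, pow_mul, hX3, one_pow]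
        rw [hαx, cW, map_pow, ← h4, ← pow_add, pow_succ, h6, one_mul]
      rw [this]
      exact mul_mem hcH (hH _ d.A.x0_mem)
    induction w using FreeGroup.induction_on with
    | C1 => rw [map_one]; exact one_mem _
    | of i =>
      fin_cases i
      · show φ (FreeGroup.of 0) ∈ H
        rw [← hW' _ h0, d.ev_of0]; exact hH _ d.A.a0_mem
      · show Xg ∈ H
        rw [← hαx]; exact hH _ d.A.x0_mem
      · exact hZ
    | inv_of i ih => rw [map_inv]; exact inv_mem ih
    | mul u v hu hv => rw [map_mul]; exact mul_mem hu hv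

theorem cyc_three_mem {Y : Finset Ω} (h : {d.A.pa, d.A.pb, d.A.ι 0} ⊆ Y) :
    d.A.pa ∈ Y ∧ d.A.pb ∈ Y ∧ d.A.ι 0 ∈ Y ∧ d.A.x0 ∈ altOn Y := by
  have h1 : d.A.pa ∈ Y := h (by simp)
  have h2 : d.A.pb ∈ Y := h (by simp)
  have h3 : d.A.ι 0 ∈ Y := h (by simp)
  exact ⟨h1, h2, h3, cyc_mem_altOn h1 h2 h3 d.A.hab (d.A.ha 0).symm⟩

theorem mem_image_c {Y : Finset Ω} {i : Ω} : i ∈ Y.image d.c ↔ d.c i ∈ Y := by
  rw [Finset.mem_image]
  exact ⟨fun ⟨j, hj, hji⟩ => by rw [← hji, d.hc]; exact hj, fun hi => ⟨d.c i, hi, d.hc i⟩⟩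

/-- Gluing inside a subset of `X`. -/
theorem glueOn {G : Type*} [Group G] (M : d.Model G) {Y : Finset Ω} (hYX : Y ⊆ d.A.X)
    (h3 : {d.A.pa, d.A.pb, d.A.ι 0} ⊆ Y) (hgY : d.g ∈ altOn Y)
    (horb : ∀ i ∈ Y, d.c i ∉ Y → ∃ k : ℕ, (d.g ^ k) d.A.pa = i)
    (hK : ∀ σ ∈ altOn (Y ∩ Y.image d.c), M.φ cW * M.α σ * M.φ cW = M.α (d.c * σ * d.c)) :
    ∃ ψ : Perm Ω → G, IsHomOn (Y ∪ Y.image d.c) ψ ∧ (∀ σ ∈ altOn Y, ψ σ = M.α σ) ∧
      ∀ σ ∈ altOn (Y ∪ Y.image d.c), M.φ cW * ψ σ * M.φ cW = ψ (d.c * σ * d.c) := by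
  obtain ⟨h1, h2, h4, -⟩ := d.cyc_three_mem h3
  exact glue (M.hα.mono hYX) d.hc M.hC h1 h2 h4 d.A.hab (d.A.ha 0).symm (d.A.hb 0).symm d.hca
    d.hcb d.hce hK M.hx hgY d.hgb d.hge horb M.hg

theorem ev_cyc_mem {i : Ω} (hcover : ∀ i, i ∈ d.A.X ∨ d.c i ∈ d.A.X) (hia : i ≠ d.A.pa)
    (hib : i ≠ d.A.pb) : cyc d.A.pa d.A.pb i ∈ d.ev.range := by
  rcases hcover i with hi | hi
  · exact ⟨_, d.ev_wA (cyc_mem_altOn d.A.pa_mem d.A.pb_mem hi d.A.hab hia.symm)⟩
  · refine ⟨cW * d.wA (cyc d.A.pa d.A.pb (d.c i)) * cW, ?_⟩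
    have hne : d.A.pa ≠ d.c i := fun e => hia (by rw [← d.hc i, ← e, d.hca])
    rw [map_mul, map_mul, d.ev_cW, d.ev_wA (cyc_mem_altOn d.A.pa_mem d.A.pb_mem hi d.A.hab hne),
      d.c_cyc, d.hca, d.hcb, d.hc]

theorem alt_le_ev (hcover : ∀ i, i ∈ d.A.X ∨ d.c i ∈ d.A.X) :
    altOn (Finset.univ : Finset Ω) ≤ d.ev.range :=
  altOn_le (Finset.mem_univ _) (Finset.mem_univ _) d.A.hab fun _ _ => d.ev_cyc_mem hcover

theorem range_le_closure (K : Subgroup (Perm Ω)) (h0 : d.img 0 ∈ K) (h2 : d.img 2 ∈ K) :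
    d.ev.range ≤ K := by
  rw [FreeGroup.range_lift_eq_closure, Subgroup.closure_le]
  rintro _ ⟨i, rfl⟩
  fin_cases i
  · exact h0
  · show d.img 1 ∈ K
    have h : d.img 1 = (d.img 2) ^ 4 := by
      show d.A.x0 = (d.c * d.A.x0) ^ 4
      rw [d.c_x0.mul_pow, show (4 : ℕ) = 2 * 2 from rfl, pow_mul, pow_two d.c, d.hcinv, one_pow,
        one_mul, show 2 * 2 = 3 + 1 from rfl, pow_succ, d.x0_pow_three, one_mul]
    rw [h]; exact pow_mem h2 4
  · exact h2

/-- The data of the presentation of the symmetric group. -/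
structure SymData where
  cover : ∀ i, i ∈ d.A.X ∨ d.c i ∈ d.A.X
  odd : Perm.sign d.c = -1
  /-- An element moving the three-cycle around the overlap. -/
  q : Perm Ω
  q_mem : q ∈ altOn (d.A.X ∩ d.A.X.image d.c)
  orb : ∀ i ∈ d.A.X, d.c i ∉ d.A.X → ∃ k : ℕ, (d.g ^ k) d.A.pa = i
  /-- The overlap, listed. -/
  l : List Ω
  l_nodup : l.Nodup
  l_eq : l.toFinset = d.A.X ∩ d.A.X.image d.c
  l_len : 3 ≤ l.length
  l0 : l[0] = d.A.pa
  l1 : l[1] = d.A.pb
  l2 : l[2] = d.A.ι 0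
  q0 : q l[0] = l[0] ∨ q l[0] = l[1]
  qsucc : ∀ (i : ℕ) (h : i + 1 < l.length), 1 ≤ i → q l[i] = l[i + 1]

theorem c_conj_mem {σ : Perm Ω} (hσ : σ ∈ altOn (d.A.X ∩ d.A.X.image d.c)) :
    d.c * σ * d.c ∈ altOn d.A.X := by
  rw [c_conj]
  refine altOn_mono ?_ (conj_mem_altOn hσ d.c)
  intro i hi
  obtain ⟨j, hj, rfl⟩ := Finset.mem_image.1 hi
  exact d.mem_image_c.1 (Finset.mem_inter.1 hj).2

/-- The symmetric group. -/
theorem hasPres_perm (S : d.SymData) : HasPres (Perm Ω) := by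
  classical
  have hqX : S.q ∈ altOn d.A.X := altOn_mono Finset.inter_subset_left S.q_mem
  have hq' : d.c * S.q * d.c ∈ altOn d.A.X := d.c_conj_mem S.q_mem
  set L := d.rels ++ [cW * d.wA S.q * cW * (d.wA (d.c * S.q * d.c))⁻¹] with hL
  have hev : ∀ w ∈ L, d.ev w = 1 := by
    intro w hw
    rw [hL, List.mem_append, List.mem_singleton] at hw
    rcases hw with hw | rfl
    · exact d.ev_rels w hw
    · rw [map_mul, map_mul, map_mul, map_inv, d.ev_cW, d.ev_wA hqX, d.ev_wA hq', mul_inv_cancel]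
  have hK : Subgroup.closure {d.img 0, d.img 2} = ⊤ := by
    set K := Subgroup.closure ({d.img 0, d.img 2} : Set (Perm Ω))
    have hr := d.range_le_closure K (Subgroup.subset_closure (Or.inl rfl))
      (Subgroup.subset_closure (Or.inr rfl))
    have halt : alternatingGroup Ω ≤ K := altOn_univ.symm.le.trans ((d.alt_le_ev S.cover).trans hr)
    rw [eq_top_iff]
    intro σ _
    rcases Int.units_eq_one_or (Perm.sign σ) with h | h
    · exact halt (Perm.mem_alternatingGroup.2 h)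
    · have hcK : d.c ∈ K := hr ⟨cW, d.ev_cW⟩
      have h' : σ * d.c ∈ K :=
        halt (Perm.mem_alternatingGroup.2 (by rw [map_mul, h, S.odd]; decide))
      have := mul_mem h' hcK
      rwa [mul_assoc, d.hcinv, mul_one] at this
  refine hasPres_of_card L (by simp [hL, d.rels_length]) d.img hev hK ?_
  set G := PresentedGroup (↑L.toFinset : Set (FreeGroup (Fin 3)))
  let φ : FreeGroup (Fin 3) →* G := PresentedGroup.mk _
  have hφ : ∀ w ∈ L, φ w = 1 := fun w hw => PresentedGroup.one_of_mem (List.mem_toFinset.2 hw)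
  obtain ⟨M, hM⟩ := d.exists_model φ fun w hw => hφ w (List.mem_append_left _ hw)
  set C := M.φ cW with hCdef
  have hwA : ∀ σ ∈ altOn d.A.X, M.φ (d.wA σ) = M.α σ := fun σ hσ => by
    rw [← M.hW _ d.wA_mem, d.ev_wA hσ]
  have hCC : ∀ u v : G, (C * u * C) * (C * v * C) = C * (u * v) * C := by
    intro u v
    simp only [mul_assoc]; rw [← mul_assoc C C, M.hC, one_mul]
  set K := d.A.X ∩ d.A.X.image d.c with hKdef
  let H : Subgroup (Perm Ω) :=
    { carrier := {σ | σ ∈ altOn K ∧ C * M.α σ * C = M.α (d.c * σ * d.c)}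
      one_mem' := ⟨one_mem _, by rw [M.hα.map_one, mul_one, M.hC, mul_one, d.hcinv, M.hα.map_one]⟩
      mul_mem' := fun {s t} hs ht => ⟨mul_mem hs.1 ht.1, by
        have ms := altOn_mono Finset.inter_subset_left hs.1
        have mt := altOn_mono Finset.inter_subset_left ht.1
        rw [M.hα _ ms _ mt, ← hCC, hs.2, ht.2, ← M.hα _ (d.c_conj_mem hs.1) _ (d.c_conj_mem ht.1)]
        congr 1
        simp only [mul_assoc]; rw [← mul_assoc d.c d.c, d.hcinv, one_mul]⟩
      inv_mem' := fun {s} hs => ⟨inv_mem hs.1, by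
        have hCi : C⁻¹ = C := inv_eq_of_mul_eq_one_right M.hC
        have hci : d.c⁻¹ = d.c := inv_eq_of_mul_eq_one_right d.hcinv
        have h := congrArg (·⁻¹) hs.2
        simp only [mul_inv_rev, hCi, ← M.hα.map_inv (d.c_conj_mem hs.1)] at h
        rw [M.hα.map_inv (altOn_mono Finset.inter_subset_left hs.1), mul_assoc, h]
        simp [mul_inv_rev, hci, mul_assoc]⟩ }
  have hthree : {d.A.pa, d.A.pb, d.A.ι 0} ⊆ K := by
    rw [hKdef, ← S.l_eq, ← S.l0, ← S.l1, ← S.l2]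
    intro v hv
    simp only [Finset.mem_insert, Finset.mem_singleton] at hv
    rw [List.mem_toFinset]
    rcases hv with rfl | rfl | rfl <;> exact List.getElem_mem _
  have hxH : d.A.x0 ∈ H := by
    refine ⟨(d.cyc_three_mem hthree).2.2.2, ?_⟩
    show C * M.α d.A.x0 * C = M.α (d.c * d.A.x0 * d.c)
    rw [d.c_x0.eq, mul_assoc d.A.x0, d.hcinv, mul_one, M.hx.eq, mul_assoc, M.hC, mul_one]
  have hqH : S.q ∈ H := by
    refine ⟨S.q_mem, ?_⟩
    have h := hφ _ (List.mem_append_right _ (List.mem_singleton_self _))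
    rw [← hM] at h
    rw [map_mul, map_mul, map_mul, map_inv, hwA _ hqX, hwA _ hq', mul_inv_eq_one] at h
    exact h
  have hKH : altOn K ≤ H := by
    refine grow S.l S.l_nodup S.l_eq S.l_len S.q0 S.qsucc ?_ fun T _ _ _ hT => ?_
    · simp only [S.l0, S.l1, S.l2]; exact hxH
    · intro σ hσ
      have h := conj_mem_altOn hσ S.q⁻¹
      have hT' : (T.image S.q).image (S.q⁻¹ : Perm Ω) = T := by
        rw [Finset.image_image]
        convert Finset.image_id (s := T) using 2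
        ext v; simp
      rw [hT', inv_inv] at h
      have := mul_mem (mul_mem hqH (hT h)) (inv_mem hqH)
      simpa [mul_assoc] using this
  obtain ⟨ψ, hψ, hψα, hψc⟩ := d.glueOn M subset_rfl
    (hthree.trans Finset.inter_subset_left) d.hg S.orb fun σ hσ => (hKH hσ).2
  have huniv : d.A.X ∪ d.A.X.image d.c = Finset.univ := Finset.eq_univ_iff_forall.2 fun i => by
    rcases S.cover i with h | h
    · exact Finset.mem_union_left _ h
    · exact Finset.mem_union_right _ (d.mem_image_c.2 h)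
  rw [huniv] at hψ hψc
  -- the group is covered by the image of `ψ` and one coset
  have hcc : ∀ σ ∈ altOn (Finset.univ : Finset Ω), d.c * σ * d.c ∈ altOn (Finset.univ : Finset Ω) :=
    fun σ hσ => ⟨by rw [map_mul, map_mul, hσ.1, mul_one, ← map_mul, d.hcinv, map_one],
      fun i hi => absurd (Finset.mem_univ i) hi⟩
  let U : Subgroup G :=
    { carrier := {u | ∃ σ ∈ altOn (Finset.univ : Finset Ω), u = ψ σ ∨ u = ψ σ * C}
      one_mem' := ⟨1, one_mem _, Or.inl hψ.map_one.symm⟩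
      mul_mem' := by
        rintro _ _ ⟨s, hs, rfl | rfl⟩ ⟨t, ht, rfl | rfl⟩
        · exact ⟨s * t, mul_mem hs ht, Or.inl (hψ _ hs _ ht).symm⟩
        · exact ⟨s * t, mul_mem hs ht, Or.inr (by rw [hψ _ hs _ ht, mul_assoc])⟩
        · refine ⟨s * (d.c * t * d.c), mul_mem hs (hcc t ht), Or.inr ?_⟩
          rw [hψ _ hs _ (hcc t ht), ← hψc t ht]
          simp only [mul_assoc, M.hC, mul_one]
          rw [← hCdef, M.hC, mul_one]
        · refine ⟨s * (d.c * t * d.c), mul_mem hs (hcc t ht), Or.inl ?_⟩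
          rw [hψ _ hs _ (hcc t ht), ← hψc t ht]
          simp only [mul_assoc, hCdef]
      inv_mem' := by
        rintro _ ⟨s, hs, rfl | rfl⟩
        · exact ⟨s⁻¹, inv_mem hs, Or.inl (hψ.map_inv hs).symm⟩
        · refine ⟨d.c * s⁻¹ * d.c, hcc _ (inv_mem hs), Or.inr ?_⟩
          rw [← hψc _ (inv_mem hs), hψ.map_inv hs, mul_inv_rev,
            inv_eq_of_mul_eq_one_right M.hC, mul_assoc _ C C, M.hC, mul_one] }
  have htop : ∀ u : G, u ∈ U := by
    intro u
    obtain ⟨w, rfl⟩ := PresentedGroup.mk_surjective _ u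
    show φ w ∈ U
    rw [← hM]
    refine M.gen U (fun σ hσ => ⟨σ, altOn_mono (Finset.subset_univ _) hσ,
      Or.inl (hψα σ hσ).symm⟩) ⟨1, one_mem _, Or.inr ?_⟩ w
    rw [hψ.map_one, one_mul]
  let F : altOn (Finset.univ : Finset Ω) × Bool → G :=
    fun q => if q.2 then ψ q.1 * C else ψ q.1
  have hFsurj : Function.Surjective F := by
    intro u
    obtain ⟨σ, hσ, h | h⟩ := htop u
    · exact ⟨(⟨σ, hσ⟩, false), by simp [F, h]⟩
    · exact ⟨(⟨σ, hσ⟩, true), by simp [F, h]⟩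
  refine ⟨Finite.of_surjective F hFsurj, (Nat.card_le_card_of_surjective F hFsurj).trans ?_⟩
  rw [Nat.card_prod, Nat.card_eq_fintype_card (α := Bool), Fintype.card_bool, mul_comm,
    two_mul_card_altOn (Finset.mem_univ d.A.pa) (Finset.mem_univ d.A.pb) d.A.hab,
    Nat.card_eq_fintype_card, Fintype.card_perm, Finset.card_univ]

/-- The data of the presentation of the alternating group. -/
structure AltData where
  /-- The part of `X` that is glued first. -/
  P : Finset Ω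
  P_sub : P ⊆ d.A.X
  three : {d.A.pa, d.A.pb, d.A.ι 0} ⊆ P
  cover : ∀ i, i ∈ P ∨ d.c i ∈ P
  even : Perm.sign d.c = 1
  /-- The points of `P` fixed by the involution, listed. -/
  l : List Ω
  l_nodup : l.Nodup
  l_eq : l.toFinset = P ∩ P.image d.c
  l_fix : ∀ i ∈ P, d.c i ∈ P → d.c i = i
  l_len : 3 ≤ l.length
  l0 : l[0] = d.A.pa
  l1 : l[1] = d.A.pb
  l2 : l[2] = d.A.ι 0
  /-- An element moving the three-cycle around the fixed points. -/
  q : Perm Ω
  q_mem : q ∈ altOn (P ∩ P.image d.c)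
  q0 : q l[0] = l[0] ∨ q l[0] = l[1]
  qsucc : ∀ (i : ℕ) (h : i + 1 < l.length), 1 ≤ i → q l[i] = l[i + 1]
  orb : ∀ i ∈ P, d.c i ∉ P → ∃ k : ℕ, (d.g ^ k) d.A.pa = i
  g_mem : d.g ∈ altOn ((P \ P.image d.c) ∪ {d.A.pa, d.A.pb, d.A.ι 0})
  /-- The element identifying the last point. -/
  t : Perm Ω
  t_spec : (t = 1 ∧ P = d.A.X) ∨ ∃ u' r : Ω, d.A.X = insert u' P ∧ u' ∉ P ∧ r ∈ P ∧ d.c r ∉ P ∧
    r ≠ d.c u' ∧ t = cyc u' (d.c u') r

/-- The alternating group. -/
theorem hasPres_alt (S : d.AltData) : HasPres (alternatingGroup Ω) := by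
  classical
  set Kf := S.P ∩ S.P.image d.c with hKf
  have hKfix : ∀ i ∈ Kf, d.c i = i := fun i hi =>
    S.l_fix i (Finset.mem_inter.1 hi).1 (d.mem_image_c.1 (Finset.mem_inter.1 hi).2)
  have hthree : {d.A.pa, d.A.pb, d.A.ι 0} ⊆ Kf := by
    intro v hv
    refine Finset.mem_inter.2 ⟨S.three hv, d.mem_image_c.2 ?_⟩
    have := hv
    simp only [Finset.mem_insert, Finset.mem_singleton] at hv
    rcases hv with rfl | rfl | rfl
    · rw [d.hca]; exact S.three this
    · rw [d.hcb]; exact S.three this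
    · rw [d.hce]; exact S.three this
  have hcoverX : ∀ i, i ∈ d.A.X ∨ d.c i ∈ d.A.X := fun i =>
    (S.cover i).imp (fun h => S.P_sub h) fun h => S.P_sub h
  set X0 := (S.P \ S.P.image d.c) ∪ {d.A.pa, d.A.pb, d.A.ι 0} with hX0
  have hX0P : X0 ⊆ S.P := Finset.union_subset Finset.sdiff_subset S.three
  have hY0 : ∀ v, v ∈ X0 ∪ X0.image d.c ↔
      v ∈ ({d.A.pa, d.A.pb, d.A.ι 0} : Finset Ω) ∨ v ∉ Kf := by
    intro v
    have h3c : d.c v ∈ ({d.A.pa, d.A.pb, d.A.ι 0} : Finset Ω) ↔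
        v ∈ ({d.A.pa, d.A.pb, d.A.ι 0} : Finset Ω) := by
      constructor
      · intro h; rw [← d.hc v, hKfix _ (hthree h)]; exact h
      · intro h; rw [hKfix _ (hthree h)]; exact h
    simp only [hX0, Finset.mem_union, Finset.mem_sdiff, d.mem_image_c, h3c, d.hc, hKf,
      Finset.mem_inter]
    rcases S.cover v with h | h <;> tauto
  -- the element `t`
  have ht : S.t ∈ altOn d.A.X ∧ (∀ i ∈ Kf, S.t i = i) := by
    rcases S.t_spec with ⟨h, -⟩ | ⟨u', r, hX, hu', hr, hcr, hru, h⟩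
    · rw [h]; exact ⟨one_mem _, fun i _ => rfl⟩
    · have hcu : d.c u' ∈ S.P := (S.cover u').resolve_left hu'
      have hu'u : u' ≠ d.c u' := fun e => hu' (e ▸ hcu)
      have hu'r : u' ≠ r := fun e => hu' (e ▸ hr)
      refine ⟨?_, fun i hi => ?_⟩
      · rw [h, hX]
        exact cyc_mem_altOn (Finset.mem_insert_self _ _) (Finset.mem_insert_of_mem hcu)
          (Finset.mem_insert_of_mem hr) hu'u hu'r
      · rw [h]
        obtain ⟨h1, h2⟩ := Finset.mem_inter.1 hi
        have hfix := hKfix i hi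
        refine cyc_apply_ne (fun e => hu' (e ▸ h1)) (fun e => ?_) fun e => ?_
        · exact hu' (by rw [← d.hc u', ← e, hfix]; exact h1)
        · exact hcr (e ▸ d.mem_image_c.1 h2)
  obtain ⟨htX, htfix⟩ := ht
  have hqX : S.q⁻¹ ∈ altOn d.A.X :=
    inv_mem (altOn_mono (Finset.inter_subset_left.trans S.P_sub) S.q_mem)
  set y := S.t * S.q⁻¹ with hy
  have hyX : y ∈ altOn d.A.X := mul_mem htX hqX
  set τ := S.t * d.c * S.t⁻¹ with hτ
  have hqc : Commute d.c S.q⁻¹ := (commute_of_fix S.q_mem d.c hKfix).inv_right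
  have hyc : y * d.c * y⁻¹ = τ := by
    rw [hy, hτ, mul_inv_rev, inv_inv]
    calc S.t * S.q⁻¹ * d.c * (S.q * S.t⁻¹) = S.t * (S.q⁻¹ * d.c) * S.q * S.t⁻¹ := by group
      _ = S.t * (d.c * S.q⁻¹) * S.q * S.t⁻¹ := by rw [hqc.eq]
      _ = _ := by group
  have hτfix : ∀ i ∈ Kf, τ i = i := by
    intro i hi
    have h1 : S.t⁻¹ i = i := by rw [Perm.inv_eq_iff_eq, htfix i hi]
    rw [hτ, Perm.mul_apply, Perm.mul_apply, h1, hKfix i hi, htfix i hi]
  have hτmem : τ ∈ altOn (X0 ∪ X0.image d.c) := by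
    refine ⟨by rw [hτ, map_mul, map_mul, map_inv, S.even, mul_one, mul_inv_cancel], fun i hi => ?_⟩
    rw [hY0, not_or, not_not] at hi
    exact hτfix i hi.2
  have hcyc0 : ∀ v ∈ X0 ∪ X0.image d.c, v ≠ d.A.pa → v ≠ d.A.pb → cyc d.A.pa d.A.pb v ∈
      (Subgroup.closure {u : FreeGroup (Fin 3) | ∃ s ∈ altOn X0,
        u = d.wA s ∨ u = cW * d.wA s * cW}).map d.ev := by
    intro v hv hva hvb
    have hmem : d.A.pa ∈ X0 ∧ d.A.pb ∈ X0 :=
      ⟨Finset.mem_union_right _ (by simp), Finset.mem_union_right _ (by simp)⟩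
    have hsub : altOn X0 ≤ altOn d.A.X := altOn_mono (hX0P.trans S.P_sub)
    rcases Finset.mem_union.1 hv with hv | hv
    · have hm := cyc_mem_altOn hmem.1 hmem.2 hv d.A.hab hva.symm
      exact ⟨_, Subgroup.subset_closure ⟨_, hm, Or.inl rfl⟩, d.ev_wA (hsub hm)⟩
    · have hv' := d.mem_image_c.1 hv
      have hne : d.A.pa ≠ d.c v := fun e => hva (by rw [← d.hc v, ← e, d.hca])
      have hm := cyc_mem_altOn hmem.1 hmem.2 hv' d.A.hab hne
      refine ⟨_, Subgroup.subset_closure ⟨_, hm, Or.inr rfl⟩, ?_⟩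
      rw [map_mul, map_mul, d.ev_cW, d.ev_wA (hsub hm), d.c_cyc, d.hca, d.hcb, d.hc]
  obtain ⟨W, hW, hWτ⟩ := Subgroup.mem_map.1 (altOn_le
    (Finset.mem_union_left _ (Finset.mem_union_right _ (by simp)))
    (Finset.mem_union_left _ (Finset.mem_union_right _ (by simp))) d.A.hab hcyc0 hτmem)
  set L := d.rels ++ [d.wA y * cW * (d.wA y)⁻¹ * W⁻¹] with hL
  have hev : ∀ w ∈ L, d.ev w = 1 := by
    intro w hw
    rw [hL, List.mem_append, List.mem_singleton] at hw
    rcases hw with hw | rfl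
    · exact d.ev_rels w hw
    · rw [map_mul, map_mul, map_mul, map_inv, map_inv, d.ev_cW, d.ev_wA hyX, hyc, hWτ,
        mul_inv_cancel]
  have himg : ∀ i, d.img i ∈ alternatingGroup Ω := by
    intro i
    fin_cases i <;> rw [Perm.mem_alternatingGroup]
    · exact d.A.a0_even
    · exact d.A.x0_mem.1
    · show Perm.sign (d.c * d.A.x0) = 1
      rw [map_mul, S.even, d.A.x0_mem.1, mul_one]
  let f : Fin 3 → alternatingGroup Ω := fun i => ⟨d.img i, himg i⟩
  have hsub : (alternatingGroup Ω).subtype.comp (FreeGroup.lift f) = d.ev := by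
    ext i; simp [ev, f]
  have hf : ∀ w ∈ L, FreeGroup.lift f w = 1 := fun w hw => Subtype.ext (by
    have := hev w hw
    rw [← hsub] at this
    simpa using this)
  have hK : Subgroup.closure {f 0, f 2} = ⊤ := by
    apply Subgroup.map_injective (alternatingGroup Ω).subtype_injective
    rw [← MonoidHom.range_eq_map, Subgroup.range_subtype, MonoidHom.map_closure, Set.image_pair]
    refine le_antisymm ((Subgroup.closure_le _).2 ?_) ?_
    · rintro _ (rfl | rfl)
      · exact (f 0).2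
      · exact (f 2).2
    · refine altOn_univ.symm.le.trans ((d.alt_le_ev hcoverX).trans (d.range_le_closure _ ?_ ?_))
      · exact Subgroup.subset_closure (Or.inl rfl)
      · exact Subgroup.subset_closure (Or.inr rfl)
  refine hasPres_of_card L (by simp [hL, d.rels_length]) f hf hK ?_
  set G := PresentedGroup (↑L.toFinset : Set (FreeGroup (Fin 3)))
  let φ : FreeGroup (Fin 3) →* G := PresentedGroup.mk _
  have hφ : ∀ w ∈ L, φ w = 1 := fun w hw => PresentedGroup.one_of_mem (List.mem_toFinset.2 hw)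
  obtain ⟨M, hM⟩ := d.exists_model φ fun w hw => hφ w (List.mem_append_left _ hw)
  set C := M.φ cW with hCdef
  have hCi : C⁻¹ = C := inv_eq_of_mul_eq_one_right M.hC
  have hwA : ∀ σ ∈ altOn d.A.X, M.φ (d.wA σ) = M.α σ := fun σ hσ => by
    rw [← M.hW _ d.wA_mem, d.ev_wA hσ]
  have hrel : M.α y * C * (M.α y)⁻¹ = M.φ W := by
    have h := hφ _ (List.mem_append_right _ (List.mem_singleton_self _))
    rw [← hM] at h
    rwa [map_mul, map_mul, map_mul, map_inv, map_inv, hwA _ hyX, mul_inv_eq_one] at h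
  -- the value of `W` under every partial glueing
  have hval : ∀ (Y : Finset Ω) (ψ : Perm Ω → G), X0 ⊆ Y → Y ⊆ d.A.X →
      IsHomOn (Y ∪ Y.image d.c) ψ → (∀ σ ∈ altOn Y, ψ σ = M.α σ) →
      (∀ σ ∈ altOn (Y ∪ Y.image d.c), C * ψ σ * C = ψ (d.c * σ * d.c)) →
      M.φ W = ψ τ := by
    intro Y ψ hY hYX hψ hψα hψc
    rw [← hWτ]
    have hmem : ∀ s ∈ altOn X0, d.ev (d.wA s) = s ∧ s ∈ altOn Y ∧ s ∈ altOn (Y ∪ Y.image d.c) ∧
        d.c * s * d.c ∈ altOn (Y ∪ Y.image d.c) := by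
      intro s hs
      refine ⟨d.ev_wA (altOn_mono (hX0P.trans S.P_sub) hs), altOn_mono hY hs,
        altOn_mono (hY.trans Finset.subset_union_left) hs, ?_⟩
      rw [c_conj]
      exact altOn_mono ((Finset.image_subset_image hY).trans Finset.subset_union_right)
        (conj_mem_altOn hs d.c)
    have key : d.ev W ∈ altOn (Y ∪ Y.image d.c) ∧ M.φ W = ψ (d.ev W) := by
      clear hrel hev hf hWτ hL hcyc0 hφ
      clear_value L
      induction hW using Subgroup.closure_induction with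
      | mem v hv =>
        obtain ⟨s, hs, rfl | rfl⟩ := hv
        · obtain ⟨h1, h2, h3, -⟩ := hmem s hs
          rw [h1, hψα s h2, hwA s (altOn_mono hYX h2)]
          exact ⟨h3, rfl⟩
        · obtain ⟨h1, h2, h3, h4⟩ := hmem s hs
          rw [map_mul, map_mul, d.ev_cW, h1, map_mul, map_mul, hwA s (altOn_mono hYX h2),
            ← hψc s h3, hψα s h2, ← hCdef]
          exact ⟨h4, rfl⟩
      | one => rw [map_one, map_one, hψ.map_one]; exact ⟨one_mem _, rfl⟩
      | mul v w _ _ hv hw =>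
        rw [map_mul, map_mul, hψ _ hv.1 _ hw.1, hv.2, hw.2]; exact ⟨mul_mem hv.1 hw.1, rfl⟩
      | inv v _ hv => rw [map_inv, map_inv, hψ.map_inv hv.1, hv.2]; exact ⟨inv_mem hv.1, rfl⟩
    exact key.2
  have hKfX : Kf ⊆ d.A.X := Finset.inter_subset_left.trans S.P_sub
  -- partial glueing over a set of fixed points
  have hYK : ∀ T : Finset Ω, T ⊆ Kf →
      ∀ i ∈ (S.P \ S.P.image d.c) ∪ T, d.c i ∈ (S.P \ S.P.image d.c) ∪ T → i ∈ T := by
    intro T hT i hi hci
    rcases Finset.mem_union.1 hi with h | h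
    · exfalso
      have hiP := (Finset.mem_sdiff.1 h).1
      have hciP : d.c i ∈ S.P := by
        rcases Finset.mem_union.1 hci with h' | h'
        · exact (Finset.mem_sdiff.1 h').1
        · exact (Finset.mem_inter.1 (hT h')).1
      exact (Finset.mem_sdiff.1 h).2 (d.mem_image_c.2 hciP)
    · exact h
  have hglueT : ∀ T, {d.A.pa, d.A.pb, d.A.ι 0} ⊆ T → T ⊆ Kf →
      (∀ σ ∈ altOn T, Commute C (M.α σ)) →
      ∃ ψ : Perm Ω → G,
        IsHomOn (((S.P \ S.P.image d.c) ∪ T) ∪ ((S.P \ S.P.image d.c) ∪ T).image d.c) ψ ∧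
        (∀ σ ∈ altOn ((S.P \ S.P.image d.c) ∪ T), ψ σ = M.α σ) ∧
        ∀ σ ∈ altOn (((S.P \ S.P.image d.c) ∪ T) ∪ ((S.P \ S.P.image d.c) ∪ T).image d.c),
          C * ψ σ * C = ψ (d.c * σ * d.c) := by
    intro T h3 hT hcomm
    refine d.glueOn M ?_ (h3.trans Finset.subset_union_right) ?_ ?_ ?_
    · exact Finset.union_subset (Finset.sdiff_subset.trans S.P_sub) (hT.trans hKfX)
    · exact altOn_mono (Finset.union_subset_union subset_rfl h3) S.g_mem
    · intro i hi hci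
      refine S.orb i ?_ fun h => ?_
      · rcases Finset.mem_union.1 hi with h | h
        · exact (Finset.mem_sdiff.1 h).1
        · exact (Finset.mem_inter.1 (hT h)).1
      · rcases Finset.mem_union.1 hi with h' | h'
        · exact (Finset.mem_sdiff.1 h').2 (d.mem_image_c.2 h)
        · exact hci (Finset.mem_union_right _ (by rw [hKfix _ (hT h')]; exact h'))
    · intro σ hσ
      have hσT : σ ∈ altOn T := altOn_mono (fun i hi =>
        hYK T hT i (Finset.mem_inter.1 hi).1 (d.mem_image_c.1 (Finset.mem_inter.1 hi).2)) hσ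
      rw [(hcomm σ hσT).eq, mul_assoc, M.hC, mul_one,
        (commute_of_fix hσT d.c fun i hi => hKfix i (hT hi)).eq, mul_assoc, d.hcinv, mul_one]
  -- `C` centralises the fixed points
  let H : Subgroup (Perm Ω) :=
    { carrier := {σ | σ ∈ altOn d.A.X ∧ Commute C (M.α σ)}
      one_mem' := ⟨one_mem _, by rw [M.hα.map_one]; exact Commute.one_right _⟩
      mul_mem' := fun {s t} hs ht => ⟨mul_mem hs.1 ht.1, by
        rw [M.hα _ hs.1 _ ht.1]; exact hs.2.mul_right ht.2⟩
      inv_mem' := fun {s} hs => ⟨inv_mem hs.1, by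
        rw [M.hα.map_inv hs.1]; exact hs.2.inv_right⟩ }
  have hKH : altOn Kf ≤ H := by
    refine grow S.l S.l_nodup S.l_eq S.l_len S.q0 S.qsucc ?_ fun T h3 hT hqT hTH => ?_
    · simp only [S.l0, S.l1, S.l2]
      exact ⟨d.A.x0_mem, M.hx⟩
    · simp only [S.l0, S.l1, S.l2] at h3
      obtain ⟨ψ, hψ, hψα, hψc⟩ := hglueT T h3 hT fun σ hσ => (hTH hσ).2
      intro σ hσ
      have hσX : σ ∈ altOn d.A.X := altOn_mono (hqT.trans hKfX) hσ
      refine ⟨hσX, ?_⟩
      have hW' := hval _ ψ (Finset.union_subset_union subset_rfl h3)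
        (Finset.union_subset (Finset.sdiff_subset.trans S.P_sub) (hT.trans hKfX)) hψ hψα hψc
      set h := S.q⁻¹ * σ * S.q with hh
      have hhT : h ∈ altOn T := by
        have h' := conj_mem_altOn hσ S.q⁻¹
        have hT' : (T.image S.q).image (S.q⁻¹ : Perm Ω) = T := by
          rw [Finset.image_image]
          convert Finset.image_id (s := T) using 2
          ext v; simp
        rwa [hT', inv_inv] at h'
      have hhX : h ∈ altOn d.A.X := altOn_mono (hT.trans hKfX) hhT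
      have hY : T ⊆ ((S.P \ S.P.image d.c) ∪ T) ∪ ((S.P \ S.P.image d.c) ∪ T).image d.c :=
        Finset.subset_union_right.trans Finset.subset_union_left
      have hcom : Commute (M.φ W) (M.α h) := by
        rw [hW', ← hψα h (altOn_mono Finset.subset_union_right hhT)]
        refine hψ.commute ?_ (altOn_mono hY hhT)
          (commute_of_fix hhT τ fun i hi => hτfix i (hT hi))
        refine altOn_mono ?_ hτmem
        have hsub : X0 ⊆ (S.P \ S.P.image d.c) ∪ T := Finset.union_subset_union subset_rfl h3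
        exact Finset.union_subset_union hsub (Finset.image_subset_image hsub)
      rw [← hrel] at hcom
      have hth : y⁻¹ * h * y = σ := by
        have htc : S.t⁻¹ * h * S.t = h := by
          have := (commute_of_fix hhT S.t fun i hi => htfix i (hT hi)).eq
          rw [mul_assoc, ← this, inv_mul_cancel_left]
        calc y⁻¹ * h * y = S.q * (S.t⁻¹ * h * S.t) * S.q⁻¹ := by rw [hy]; group
          _ = σ := by rw [htc, hh]; group
      rw [← hth, M.hα _ (mul_mem (inv_mem hyX) hhX) _ hyX, M.hα _ (inv_mem hyX) _ hhX,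
        M.hα.map_inv hyX]
      show _ * _ = _ * _
      have := hcom.eq
      calc C * ((M.α y)⁻¹ * M.α h * M.α y)
          = (M.α y)⁻¹ * (M.α y * C * (M.α y)⁻¹ * M.α h) * M.α y := by group
        _ = (M.α y)⁻¹ * (M.α h * (M.α y * C * (M.α y)⁻¹)) * M.α y := by rw [this]
        _ = _ := by group
  -- glueing over `P`
  have hPeq : (S.P \ S.P.image d.c) ∪ Kf = S.P := Finset.sdiff_union_inter _ _
  obtain ⟨ψ, hψ, hψα, hψc⟩ := hglueT Kf hthree subset_rfl fun σ hσ => (hKH hσ).2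
  rw [hPeq] at hψ hψα hψc
  have huniv : S.P ∪ S.P.image d.c = Finset.univ := Finset.eq_univ_iff_forall.2 fun i => by
    rcases S.cover i with h | h
    · exact Finset.mem_union_left _ h
    · exact Finset.mem_union_right _ (d.mem_image_c.2 h)
  have hW' := hval S.P ψ hX0P S.P_sub (by rw [huniv] at hψ ⊢; exact hψ) hψα
    (by rw [huniv] at hψc ⊢; exact hψc)
  rw [huniv] at hψ hψc
  have hU : ∀ σ : Perm Ω, Perm.sign σ = 1 → σ ∈ altOn (Finset.univ : Finset Ω) := fun σ h =>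
    ⟨h, fun i hi => absurd (Finset.mem_univ i) hi⟩
  have hcU : d.c ∈ altOn (Finset.univ : Finset Ω) := hU _ S.even
  have htU : S.t ∈ altOn (Finset.univ : Finset Ω) := altOn_mono (Finset.subset_univ _) htX
  -- the relation, with `q` removed
  have hαq : Commute C (M.α S.q⁻¹) := (hKH (inv_mem S.q_mem)).2
  have hrel' : M.α S.t * C * (M.α S.t)⁻¹ = ψ S.t * ψ d.c * (ψ S.t)⁻¹ := by
    rw [← hψ.map_conj htU hcU, ← hW', ← hrel, hy, M.hα _ htX _ hqX]
    calc M.α S.t * C * (M.α S.t)⁻¹ = M.α S.t * (C * M.α S.q⁻¹) * (M.α S.q⁻¹)⁻¹ * (M.α S.t)⁻¹ := by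
          group
      _ = M.α S.t * (M.α S.q⁻¹ * C) * (M.α S.q⁻¹)⁻¹ * (M.α S.t)⁻¹ := by rw [hαq.eq]
      _ = _ := by group
  have hαt : M.α S.t = ψ S.t := by
    rcases S.t_spec with ⟨h, -⟩ | ⟨u', r, hX, hu', hr, hcr, hru, h⟩
    · rw [h, M.hα.map_one, hψ.map_one]
    set u := d.c u' with hu
    have hcu : u ∈ S.P := (S.cover u').resolve_left hu'
    have hu'u : u' ≠ u := fun e => hu' (e ▸ hcu)
    have hu'r : u' ≠ r := fun e => hu' (e ▸ hr)
    set a := d.A.pa
    set b := d.A.pb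
    have haP : a ∈ S.P := S.three (by simp [a])
    have hbP : b ∈ S.P := S.three (by simp [b])
    have hab : a ≠ b := d.A.hab
    have hra : r ≠ a := fun e => hcr (by rw [e, d.hca]; exact haP)
    have hrb : r ≠ b := fun e => hcr (by rw [e, d.hcb]; exact hbP)
    have hu'a : u' ≠ a := fun e => hu' (e ▸ haP)
    have hu'b : u' ≠ b := fun e => hu' (e ▸ hbP)
    have hua : u ≠ a := fun e => hu' (by rw [← d.hc u', ← hu, e, d.hca]; exact haP)
    have hub : u ≠ b := fun e => hu' (by rw [← d.hc u', ← hu, e, d.hcb]; exact hbP)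
    have hur : u ≠ r := hru.symm
    set ω := (ψ S.t)⁻¹ * M.α S.t with hω
    have hαt' : M.α S.t = ψ S.t * ω := by rw [hω, mul_inv_cancel_left]
    have hωC : ω * C * ω⁻¹ = ψ d.c := by
      rw [hω]
      calc (ψ S.t)⁻¹ * M.α S.t * C * ((ψ S.t)⁻¹ * M.α S.t)⁻¹
          = (ψ S.t)⁻¹ * (M.α S.t * C * (M.α S.t)⁻¹) * ψ S.t := by group
        _ = _ := by rw [hrel']; group
    set Z' : Finset Ω := Finset.univ \ {r, d.c r} with hZ'
    have hcomm : ∀ σ ∈ altOn Z', Commute ω (ψ σ) := by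
      let R : Subgroup (Perm Ω) :=
        { carrier := {σ | σ ∈ altOn (Finset.univ : Finset Ω) ∧ Commute ω (ψ σ)}
          one_mem' := ⟨one_mem _, by rw [hψ.map_one]; exact Commute.one_right _⟩
          mul_mem' := fun {s t} hs ht => ⟨mul_mem hs.1 ht.1, by
            rw [hψ _ hs.1 _ ht.1]; exact hs.2.mul_right ht.2⟩
          inv_mem' := fun {s} hs => ⟨inv_mem hs.1, by
            rw [hψ.map_inv hs.1]; exact hs.2.inv_right⟩ }
      have hcra : d.c r ≠ a := fun e => hra (by rw [← d.hc r, e, d.hca])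
      have hcrb : d.c r ≠ b := fun e => hrb (by rw [← d.hc r, e, d.hcb])
      have haZ : a ∈ Z' := by simp [hZ', hra.symm, hcra.symm]
      have hbZ : b ∈ Z' := by simp [hZ', hrb.symm, hcrb.symm]
      -- three-cycles inside `P` avoiding `r`
      have hin : ∀ i ∈ S.P, i ≠ r → i ≠ a → i ≠ b → Commute ω (ψ (cyc a b i)) := by
        intro i hi hir hia hib
        have hiu' : i ≠ u' := fun e => hu' (e ▸ hi)
        have hm := cyc_mem_altOn haP hbP hi hab hia.symm
        have hta : S.t a = a := by rw [h]; exact cyc_apply_ne hu'a.symm hua.symm hra.symm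
        have htb : S.t b = b := by rw [h]; exact cyc_apply_ne hu'b.symm hub.symm hrb.symm
        have hti : S.t i ∈ S.P ∧ S.t i ≠ a := by
          by_cases hiu : i = u
          · rw [h, hiu, cyc_apply_mid]; exact ⟨hr, hra⟩
          · rw [h, cyc_apply_ne hiu' hiu hir]; exact ⟨hi, hia⟩
        have e1 : M.α (S.t * cyc a b i * S.t⁻¹) = ψ (S.t * cyc a b i * S.t⁻¹) := by
          rw [cyc_conj, hta, htb]
          exact (hψα _ (cyc_mem_altOn haP hbP hti.1 hab hti.2.symm)).symm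
        rw [M.hα.map_conj htX (altOn_mono S.P_sub hm),
          hψ.map_conj htU (altOn_mono (Finset.subset_univ _) hm), ← hψα _ hm, hαt'] at e1
        show _ * _ = _ * _
        calc ω * ψ (cyc a b i)
            = (ψ S.t)⁻¹ * (ψ S.t * ω * ψ (cyc a b i) * (ψ S.t * ω)⁻¹) * ψ S.t * ω := by group
          _ = _ := by rw [e1]; group
      intro σ hσ
      refine (altOn_le (R := R) haZ hbZ hab (fun i hi hia hib => ?_) hσ).2
      have hmU := cyc_mem_altOn (Finset.mem_univ a) (Finset.mem_univ b) (Finset.mem_univ i) hab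
        hia.symm
      refine ⟨hmU, ?_⟩
      simp only [hZ', Finset.mem_sdiff, Finset.mem_insert, Finset.mem_singleton, not_or] at hi
      obtain ⟨-, hir, hicr⟩ := hi
      by_cases hiP : i ∈ S.P
      · exact hin i hiP hir hia hib
      have hci : d.c i ∈ S.P := (S.cover i).resolve_left hiP
      have hcia : d.c i ≠ a := fun e => hia (by rw [← d.hc i, e, d.hca])
      have hcib : d.c i ≠ b := fun e => hib (by rw [← d.hc i, e, d.hcb])
      have hcir : d.c i ≠ r := fun e => hicr (by rw [← e, d.hc])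
      have h1 := hin _ hci hcir hcia hcib
      set h' := cyc a b (d.c i) with hh'
      have hh'U : h' ∈ altOn (Finset.univ : Finset Ω) :=
        cyc_mem_altOn (Finset.mem_univ _) (Finset.mem_univ _) (Finset.mem_univ _) hab hcia.symm
      have h2 : ψ (cyc a b i) = C * ψ h' * C := by
        rw [hψc _ hh'U, hh', d.c_cyc, d.hca, d.hcb, d.hc]
      have h3 : ψ d.c * ψ h' * (ψ d.c)⁻¹ = C * ψ h' * C := by
        rw [← hψ.map_conj hcU hh'U, hψc _ hh'U, d.c_conj]
      rw [h2]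
      show _ * _ = _ * _
      calc ω * (C * ψ h' * C)
          = ω * C * ω⁻¹ * (ω * ψ h') * (ω⁻¹ * (ω * C * ω⁻¹) * ω) := by group
        _ = ω * C * ω⁻¹ * (ψ h' * ω) * (ω⁻¹ * (ω * C * ω⁻¹) * ω) := by rw [h1.eq]
        _ = (ω * C * ω⁻¹) * ψ h' * (ω * C * ω⁻¹) * ω := by group
        _ = _ := by
          rw [hωC]
          have : (ψ d.c)⁻¹ = ψ d.c := by
            rw [← hψ.map_inv hcU, inv_eq_of_mul_eq_one_right d.hcinv]
          rw [this] at h3
          rw [h3]
    -- a conjugate of `t` shows `ω = 1`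
    set s := cyc r a b with hs
    have hsP : s ∈ altOn S.P := cyc_mem_altOn hr haP hbP hra hrb
    have hsU : s ∈ altOn (Finset.univ : Finset Ω) := altOn_mono (Finset.subset_univ _) hsP
    have hsu' : s u' = u' := cyc_apply_ne hu'r hu'a hu'b
    have hsu : s u = u := cyc_apply_ne hur hua hub
    set ts := s * S.t * s⁻¹ with hts
    have htsX : ts ∈ altOn d.A.X :=
      mul_mem (mul_mem (altOn_mono S.P_sub hsP) htX) (inv_mem (altOn_mono S.P_sub hsP))
    have htsU : ts ∈ altOn (Finset.univ : Finset Ω) := altOn_mono (Finset.subset_univ _) htsX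
    set p1 := ts * S.t * ts⁻¹ with hp1
    have hp1P : p1 ∈ altOn S.P := by
      have hm : p1 ∈ altOn d.A.X := mul_mem (mul_mem htsX htX) (inv_mem htsX)
      refine ⟨hm.1, fun i hi => ?_⟩
      by_cases hiu : i = u'
      · rw [hiu, hp1, Perm.mul_apply, Perm.mul_apply]
        have e1 : ts⁻¹ u' = a := by
          rw [hts, h, cyc_conj, hsu', hsu, hs, cyc_apply_left hra hab]
          exact cyc_inv_apply_left hu'a hua
        rw [e1, h, cyc_apply_ne hu'a.symm hua.symm hra.symm, ← e1, Perm.inv_def,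
          Equiv.apply_symm_apply]
      · refine hm.2 i fun h' => ?_
        rw [hX, Finset.mem_insert] at h'
        exact h'.elim hiu hi
    have hw : s⁻¹ * S.t * s ∈ altOn Z' := by
      have e2 : s⁻¹ * S.t * s = cyc u' u b := by
        have := cyc_conj s⁻¹ u' u r
        rw [inv_inv, ← h] at this
        rw [this, hs, cyc_inv_apply_left hrb hab, cyc_inv_apply_ne hu'r hu'a hu'b,
          cyc_inv_apply_ne hur hua hub]
      rw [e2]
      have hcr' : ∀ v, v ∈ S.P → d.c r ≠ v := fun v hv e => hcr (e ▸ hv)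
      refine cyc_mem_altOn ?_ ?_ ?_ hu'u hu'b <;>
        simp only [hZ', Finset.mem_sdiff, Finset.mem_univ, true_and, Finset.mem_insert,
          Finset.mem_singleton, not_or]
      · exact ⟨hu'r, fun e => hru (by rw [hu, e, d.hc])⟩
      · exact ⟨hur, (hcr' u hcu).symm⟩
      · exact ⟨hrb.symm, (hcr' b hbP).symm⟩
    have hcw := hcomm _ hw
    rw [hψ _ (mul_mem (inv_mem hsU) htU) _ hsU, hψ _ (inv_mem hsU) _ htU, hψ.map_inv hsU] at hcw
    have eL : M.α ts = ψ s * (ψ S.t * ω) * (ψ s)⁻¹ := by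
      rw [hts, M.hα.map_conj (altOn_mono S.P_sub hsP) htX, ← hψα s hsP, hαt']
    have eR : M.α (ts * S.t) = M.α p1 * M.α ts := by
      rw [← M.hα _ (altOn_mono S.P_sub hp1P) _ htsX, hp1, inv_mul_cancel_right]
    rw [M.hα _ htsX _ htX, eL, hαt', ← hψα p1 hp1P, hp1, hψ.map_conj htsU htU, hts,
      hψ.map_conj hsU htU] at eR
    set T := ψ S.t
    set σ := ψ s
    have key : σ⁻¹ * T * σ * ω * σ⁻¹ * ω = σ⁻¹ * T * σ * ω * σ⁻¹ := by
      calc σ⁻¹ * T * σ * ω * σ⁻¹ * ω = (σ⁻¹ * T * σ * ω) * σ⁻¹ * ω := rfl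
        _ = (ω * (σ⁻¹ * T * σ)) * σ⁻¹ * ω := by rw [hcw.eq]
        _ = (σ * T)⁻¹ * (σ * (T * ω) * σ⁻¹ * (T * ω)) := by group
        _ = (σ * T)⁻¹ * (σ * T * σ⁻¹ * T * (σ * T * σ⁻¹)⁻¹ * (σ * (T * ω) * σ⁻¹)) := by rw [eR]
        _ = _ := by group
    have hω1 : ω = 1 := mul_left_cancel (key.trans (mul_one _).symm)
    rw [hαt', hω1, mul_one]
  have hCc : C = ψ d.c := by
    rw [hαt] at hrel'
    exact mul_left_cancel (mul_right_cancel hrel')
  have hαψ : ∀ σ ∈ altOn d.A.X, M.α σ = ψ σ := by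
    refine M.hα.ext (hψ.mono (Finset.subset_univ _)) d.A.pa_mem d.A.pb_mem d.A.hab
      fun i hi hia hib => ?_
    by_cases hiP : i ∈ S.P
    · exact (hψα _ (cyc_mem_altOn (S.three (by simp)) (S.three (by simp)) hiP d.A.hab
        hia.symm)).symm
    rcases S.t_spec with ⟨-, hP⟩ | ⟨u', r, hX, hu', hr, hcr, hru, h⟩
    · exact absurd (hP ▸ hi) hiP
    rw [hX, Finset.mem_insert] at hi
    obtain rfl := hi.resolve_right hiP
    have haP : d.A.pa ∈ S.P := S.three (by simp)
    have hbP : d.A.pb ∈ S.P := S.three (by simp)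
    have hcu : d.c i ∈ S.P := (S.cover i).resolve_left hiP
    have hra : d.A.pa ≠ r := fun e => hcr (by rw [← e, d.hca]; exact haP)
    have hrb : d.A.pb ≠ r := fun e => hcr (by rw [← e, d.hcb]; exact hbP)
    have e : cyc d.A.pa d.A.pb i = S.t * cyc d.A.pa d.A.pb r * S.t⁻¹ := by
      rw [h, cyc_conj, cyc_apply_ne hia.symm (fun e => hiP (by rw [← d.hc i, ← e, d.hca]; exact haP))
        hra, cyc_apply_ne hib.symm (fun e => hiP (by rw [← d.hc i, ← e, d.hcb]; exact hbP)) hrb,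
        cyc_apply_right (show i ≠ r from fun e => hiP (e ▸ hr)) hru.symm]
    have hm := cyc_mem_altOn haP hbP hr d.A.hab hra
    rw [e, M.hα.map_conj htX (altOn_mono S.P_sub hm),
      hψ.map_conj htU (altOn_mono (Finset.subset_univ _) hm), hαt, hψα _ hm]
  let U : Subgroup G :=
    { carrier := {g | ∃ σ ∈ altOn (Finset.univ : Finset Ω), g = ψ σ}
      one_mem' := ⟨1, one_mem _, hψ.map_one.symm⟩
      mul_mem' := by
        rintro _ _ ⟨s, hs, rfl⟩ ⟨t, ht, rfl⟩
        exact ⟨s * t, mul_mem hs ht, (hψ _ hs _ ht).symm⟩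
      inv_mem' := by
        rintro _ ⟨s, hs, rfl⟩
        exact ⟨s⁻¹, inv_mem hs, (hψ.map_inv hs).symm⟩ }
  have htop : ∀ g : G, g ∈ U := by
    intro g
    obtain ⟨w, rfl⟩ := PresentedGroup.mk_surjective _ g
    show φ w ∈ U
    rw [← hM]
    exact M.gen U (fun σ hσ => ⟨σ, altOn_mono (Finset.subset_univ _) hσ, hαψ σ hσ⟩)
      ⟨d.c, hcU, hCc⟩ w
  let F : altOn (Finset.univ : Finset Ω) → G := fun σ => ψ σ
  have hFsurj : Function.Surjective F := fun g => by
    obtain ⟨σ, hσ, h⟩ := htop g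
    exact ⟨⟨σ, hσ⟩, h.symm⟩
  refine ⟨Finite.of_surjective F hFsurj, (Nat.card_le_card_of_surjective F hFsurj).trans ?_⟩
  rw [altOn_univ]

end Config

end Cfsg.Agent.Lib.ShortPresSym
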